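import Cfsg.Agent.OddBase.Gluck

/-!
Linear facts for colouring affine groups with three colours: order and fixed space bounds for small
irreducible soluble groups of order prime to three in characteristic two.
-/

set_option autoImplicit false
set_option linter.style.haveILetI false

universe u

namespace CfsgLib.ColourThree

open CfsgLib.OddBase

variable {V : Type u} [AddCommGroup V]

variable [Finite V]

omit [Finite V] in
lemma fixed_eq_bot {A : Subgroup (Aut V)} (hirr : Irr A) (B : Subgroup A) [B.Normal] (hB : B ≠ ⊥)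
    {x : V} (hx : ∀ b ∈ B, (b : Aut V) • x = x) : x = 0 := by
  let U : AddSubgroup V :=
    { carrier := {y | ∀ b ∈ B, (b : Aut V) • y = y}
      zero_mem' := fun b _ => smul_zero (b : Aut V)
      add_mem' := fun {y z} hy hz b hb => by rw [smul_add, hy b hb, hz b hb]
      neg_mem' := fun {y} hy b hb => by rw [smul_neg, hy b hb] }
  rcases hirr U (fun a ha y hy b hb => by
    have h1 := hy (⟨a, ha⟩⁻¹ * b * ⟨a, ha⟩) (by
      simpa using (inferInstance : B.Normal).conj_mem b hb (⟨a, ha⟩⁻¹ : A))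
    simp only [Subgroup.coe_mul, Subgroup.coe_inv, mul_smul, inv_smul_eq_iff] at h1
    exact h1) with hb | ht
  · exact AddSubgroup.mem_bot.mp (hb ▸ (hx : x ∈ U))
  · refine absurd (Subgroup.eq_bot_iff_forall _ |>.mpr fun b hb => Subtype.ext (aut_ext fun y => ?_)) hB
    rw [OneMemClass.coe_one, one_smul]
    exact (show y ∈ U by rw [ht]; trivial) b hb

/-- A nontrivial irreducible soluble group has a normal elementary abelian subgroup without fixed
points. -/
theorem trivial_or_normal {A : Subgroup (Aut V)} (hsol : Group.IsSolvable A) (hirr : Irr A) :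
    A = ⊥ ∨ ∃ (q : ℕ) (B : Subgroup A), q.Prime ∧ B.Normal ∧ B ≠ ⊥ ∧ IsPGroup q B ∧
      (∀ a ∈ B, ∀ b ∈ B, a * b = b * a) ∧ q ∣ Nat.card A ∧ q ∣ Nat.card V - 1 := by
  rcases eq_or_ne A ⊥ with h | h
  · exact Or.inl h
  right
  have : Nontrivial A := (Subgroup.nontrivial_iff_ne_bot A).mpr h
  obtain ⟨N, hN, hN0, hNc⟩ := exists_abelian_normal A hsol
  obtain ⟨q, hq, hqd⟩ := Nat.exists_prime_and_dvd (fun e => hN0 (Subgroup.card_eq_one.mp e))
  haveI := Fact.mk hq
  let B : Subgroup A :=
    { carrier := {a | a ∈ N ∧ a ^ q = 1}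
      one_mem' := ⟨N.one_mem, one_pow _⟩
      mul_mem' := fun {a b} ⟨ha, ha'⟩ ⟨hb, hb'⟩ =>
        ⟨N.mul_mem ha hb, by rw [Commute.mul_pow (hNc a ha b hb), ha', hb', one_mul]⟩
      inv_mem' := fun {a} ⟨ha, ha'⟩ => ⟨N.inv_mem ha, by rw [inv_pow, ha', inv_one]⟩ }
  have hBn : B.Normal := ⟨fun a ⟨ha, ha'⟩ g => ⟨hN.conj_mem a ha g, by
    rw [conj_pow, ha', mul_one, mul_inv_cancel]⟩⟩
  obtain ⟨a, ha⟩ := exists_prime_orderOf_dvd_card' q hqd
  have hB0 : B ≠ ⊥ := by
    intro e
    have : (a : A) ∈ B := ⟨a.2, by rw [← ha, ← Subgroup.coe_pow, pow_orderOf_eq_one, Subgroup.coe_one]⟩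
    rw [e, Subgroup.mem_bot, OneMemClass.coe_eq_one] at this
    rw [this, orderOf_one] at ha
    exact hq.ne_one ha.symm
  have hpg : IsPGroup q B := fun b => ⟨1, Subtype.ext (by rw [pow_one]; exact b.2.2)⟩
  refine ⟨q, B, hq, hBn, hB0, hpg, fun a ha b hb => hNc a ha.1 b hb.1,
    hqd.trans (Subgroup.card_subgroup_dvd_card N), ?_⟩
  have hm := hpg.card_modEq_card_fixedPoints V
  have hfix : Nat.card (MulAction.fixedPoints B V) = 1 := by
    rw [Nat.card_eq_one_iff_unique]
    refine ⟨⟨fun x y => Subtype.ext ?_⟩, ⟨⟨0, fun b => smul_zero _⟩⟩⟩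
    rw [fixed_eq_bot hirr B hB0 (x := (x : V)) (fun b hb => x.2 ⟨b, hb⟩),
      fixed_eq_bot hirr B hB0 (x := (y : V)) (fun b hb => y.2 ⟨b, hb⟩)]
  rw [hfix] at hm
  exact (Nat.modEq_iff_dvd' Nat.card_pos).mp hm.symm

/-- The fixed space of an automorphism. -/
def fixS (a : Aut V) : AddSubgroup V where
  carrier := {v | a • v = v}
  zero_mem' := smul_zero a
  add_mem' := fun {v w} (hv : a • v = v) (hw : a • w = w) => by
    show a • (v + w) = v + w
    rw [smul_add, hv, hw]
  neg_mem' := fun {v} (hv : a • v = v) => by show a • (-v) = -v; rw [smul_neg, hv]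

lemma two_card_fixS {a : Aut V} (ha : a ≠ 1) : 2 * Nat.card (fixS a) ≤ Nat.card V := by
  have hne : fixS a ≠ ⊤ := fun h => ha (aut_ext fun v => by
    rw [one_smul]; exact (show v ∈ fixS a by rw [h]; trivial))
  rw [← AddSubgroup.card_mul_index (fixS a), mul_comm]
  refine Nat.mul_le_mul_left _ ?_
  have h1 : (fixS a).index ≠ 1 := fun h => hne (AddSubgroup.index_eq_one.mp h)
  have h0 : (fixS a).index ≠ 0 := AddSubgroup.index_ne_zero_of_finite
  omega

/-- In characteristic two an involution fixes a subgroup of order at least the square root. -/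
lemma card_le_fixS_sq (hV : ∀ x : V, 2 • x = 0) {a : Aut V} (ha : a * a = 1) :
    Nat.card V ≤ Nat.card (fixS a) * Nat.card (fixS a) := by
  let ga : V →+ V := (a : AddMonoid.End V)
  let f : V →+ V := ga - AddMonoidHom.id V
  have hker : f.ker = fixS a := by
    ext v
    show a • v - v = 0 ↔ a • v = v
    exact sub_eq_zero
  have hrange : f.range ≤ fixS a := by
    rintro _ ⟨v, rfl⟩
    show a • (a • v - v) = a • v - v
    rw [smul_sub, ← mul_smul, ha, one_smul]
    have h2 := hV (v - a • v)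
    rw [two_nsmul] at h2
    rw [eq_neg_of_add_eq_zero_left h2, neg_sub]
  rw [← AddSubgroup.card_mul_index f.ker, AddSubgroup.index_ker, hker]
  exact Nat.mul_le_mul_left _ (AddSubgroup.card_le_of_le hrange)

/-- A normal subgroup of prime exponent regular on an invariant set bounds the point stabiliser. -/
lemma regular_facts {A : Subgroup (Aut V)} {q : ℕ} (hq : q.Prime) (B : Subgroup A) [B.Normal]
    (hc : ∀ a ∈ B, ∀ b ∈ B, a * b = b * a) {v : V}
    (horb : Nat.card (MulAction.orbit B v) = q) (hfaith : ∀ a : A, (∀ x ∈ MulAction.orbit B v, a • x = x) → a = 1)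
    (hAorb : ∀ a : A, a • v ∈ MulAction.orbit B v) :
    Nat.card A = q * Nat.card (MulAction.stabilizer A v) ∧
    (∀ a : A, a • v = v → ∀ w ∈ MulAction.orbit B v, w ≠ v → a • w = w → a = 1) ∧
    Nat.card (MulAction.stabilizer A v) ∣ q - 1 := by
  haveI := Fact.mk hq
  have hBfree : ∀ b : B, b • v = v → b = 1 := by
    intro b hb
    refine Subtype.ext (hfaith b ?_)
    rintro _ ⟨c, rfl⟩
    show (b : A) • (c : A) • v = (c : A) • v
    rw [← mul_smul, hc b b.2 c c.2, mul_smul]
    exact congrArg ((c : A) • ·) hb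
  have hBcard : Nat.card B = q := by
    rw [← horb, Nat.card_congr (MulAction.orbitEquivQuotientStabilizer B v)]
    have hbot : MulAction.stabilizer B v = ⊥ := (Subgroup.eq_bot_iff_forall _).mpr hBfree
    rw [← Subgroup.index_eq_card, hbot, Subgroup.index_bot]
  have htr : MulAction.orbit A v = MulAction.orbit B v := by
    refine Set.Subset.antisymm ?_ ?_
    · rintro _ ⟨a, rfl⟩; exact hAorb a
    · rintro _ ⟨b, rfl⟩; exact ⟨(b : A), rfl⟩
  refine ⟨?_, ?_, ?_⟩
  · rw [← horb, ← htr, Nat.card_congr (MulAction.orbitEquivQuotientStabilizer A v),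
      ← Subgroup.index_eq_card, Subgroup.index_mul_card]
  · intro a ha w hw hwv haw
    obtain ⟨b, rfl⟩ := hw
    have hb1 : b ≠ 1 := fun e => hwv (by subst e; exact one_smul _ v)
    have hgen : Subgroup.zpowers b = ⊤ := zpowers_eq_top_of_prime_card hBcard hb1
    have hn : a * (b : A) * a⁻¹ ∈ B := (inferInstance : B.Normal).conj_mem _ b.2 a
    have hab : a * (b : A) * a⁻¹ = b := by
      refine inv_mul_eq_one.mp ?_ |>.symm
      have h1 := hBfree ⟨(b : A)⁻¹ * (a * b * a⁻¹), B.mul_mem (B.inv_mem b.2) hn⟩ (by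
        show ((b : A)⁻¹ * (a * b * a⁻¹)) • v = v
        rw [mul_smul, mul_smul, mul_smul, show a⁻¹ • v = v by rw [inv_smul_eq_iff, ha],
          show a • (b : A) • v = (b : A) • v from haw, inv_smul_smul])
      exact congrArg Subtype.val h1
    refine hfaith a ?_
    rintro _ ⟨c, rfl⟩
    obtain ⟨k, rfl⟩ := Subgroup.mem_zpowers_iff.mp (hgen.symm ▸ Subgroup.mem_top c)
    have hk : a * (b : A) ^ k * a⁻¹ = (b : A) ^ k := by rw [← conj_zpow, hab]
    show a • ((b ^ k : B) : A) • v = ((b ^ k : B) : A) • v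
    rw [Subgroup.coe_zpow, ← mul_smul, mul_inv_eq_iff_eq_mul.mp hk, mul_smul, ha]
  · have hcyc : IsCyclic B := isCyclic_of_prime_card hBcard
    let φ : MulAction.stabilizer A v →* MulAut B :=
      (MulAut.conjNormal (H := B)).comp (MulAction.stabilizer A v).subtype
    have hφ : Function.Injective φ := by
      rw [injective_iff_map_eq_one]
      intro a ha
      refine Subtype.ext (hfaith a ?_)
      rintro _ ⟨c, rfl⟩
      have hac : (a : A) * c * (a : A)⁻¹ = c := by
        have := congrArg (fun e : MulAut B => (e c : A)) ha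
        simpa [φ] using this
      show (a : A) • (c : A) • v = (c : A) • v
      rw [← mul_smul, mul_inv_eq_iff_eq_mul.mp hac, mul_smul, a.2]
    have hcard := Subgroup.card_dvd_of_injective φ hφ
    rwa [IsCyclic.card_mulAut, hBcard, Nat.totient_prime hq] at hcard

/-- Small cases in characteristic two, transitive on the nonzero vectors. -/
theorem small_transitive {A : Subgroup (Aut V)} (hsol : Group.IsSolvable A) (hirr : Irr A)
    (hV : ∀ x : V, 2 • x = 0) {n q : ℕ} (hn : Nat.card V = n) (hq : q.Prime) (hnq : n = q + 1)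
    (hq8 : 7 ≤ q) (h3 : ¬ 3 ∣ Nat.card A) :
    A = ⊥ ∨ ∃ s, Nat.card A = q * s ∧ s ∣ q - 1 ∧ ¬ 2 ∣ s ∧ ¬ 3 ∣ s ∧
      (s = 1 → ∀ a ∈ A, a ≠ 1 → Nat.card (fixS a) ≤ 1) := by
  rcases trivial_or_normal hsol hirr with h | ⟨r, B, hr, hBn, hB0, hpg, hc, -, hrd⟩
  · exact Or.inl h
  right
  haveI := hBn
  haveI := Fact.mk hr
  rw [hn, hnq, Nat.add_sub_cancel] at hrd
  obtain rfl := (Nat.prime_dvd_prime_iff_eq hr hq).mp hrd
  obtain ⟨v, hv⟩ : ∃ v : V, v ≠ 0 := by
    have : 1 < Nat.card V := by rw [hn]; omega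
    have := Finite.one_lt_card_iff_nontrivial.mp this
    exact exists_ne 0
  have hle : Nat.card (MulAction.orbit B v) ≤ r := by
    have hsub : MulAction.orbit B v ⊆ {x : V | x ≠ 0} := by
      rintro _ ⟨b, rfl⟩ hb
      have hb' : (b : A) • v = 0 := hb
      exact hv (MulAction.injective (b : A) (hb'.trans (smul_zero (b : A)).symm))
    refine le_trans (Nat.card_mono (Set.toFinite _) hsub) ?_
    have hc' : Nat.card {x : V | x ≠ 0} = n - 1 := by
      rw [Nat.card_coe_set_eq, show {x : V | x ≠ 0} = ({0}ᶜ : Set V) from rfl, Set.ncard_compl,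
        Set.ncard_singleton, hn]
    omega
  have horb : Nat.card (MulAction.orbit B v) = r := by
    obtain ⟨k, hk⟩ := hpg.card_orbit v
    rw [hk] at hle ⊢
    rcases k with _ | _ | k
    · exfalso
      refine hv (fixed_eq_bot hirr B hB0 fun b hb => ?_)
      rw [pow_zero, Nat.card_eq_one_iff_unique] at hk
      exact congrArg Subtype.val (hk.1.elim ⟨_, ⟨⟨b, hb⟩, rfl⟩⟩ ⟨v, MulAction.mem_orbit_self v⟩)
    · rw [pow_one]
    · exfalso
      have h2 : r ^ 2 ≤ r := (Nat.pow_le_pow_right hr.pos (by omega)).trans hle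
      nlinarith
  have hall : ∀ x : V, x ≠ 0 → x ∈ MulAction.orbit B v := by
    intro x hx
    by_contra hxo
    have hsub : insert x (MulAction.orbit B v) ⊆ {y : V | y ≠ 0} := by
      rintro y (rfl | ⟨b, rfl⟩)
      · exact hx
      · intro hb
        have hb' : (b : A) • v = 0 := hb
        exact hv (MulAction.injective (b : A) (hb'.trans (smul_zero (b : A)).symm))
    have := Set.ncard_le_ncard hsub (Set.toFinite _)
    rw [Set.ncard_insert_of_notMem hxo (Set.toFinite _), ← Nat.card_coe_set_eq, horb,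
      show {y : V | y ≠ 0} = ({0}ᶜ : Set V) from rfl, Set.ncard_compl, Set.ncard_singleton, hn] at this
    omega
  have hfaith : ∀ a : A, (∀ x ∈ MulAction.orbit B v, a • x = x) → a = 1 := fun a h =>
    Subtype.ext (aut_ext fun x => by
      rw [OneMemClass.coe_one, one_smul]
      rcases eq_or_ne x 0 with rfl | hx
      · exact smul_zero _
      · exact h x (hall x hx))
  have hne0 : ∀ (a : A) (x : V), x ≠ 0 → a • x ≠ 0 := fun a x hx h =>
    hx (MulAction.injective a (h.trans (smul_zero a).symm))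
  obtain ⟨hcard, hfix, hdvd⟩ := regular_facts hr B hc horb hfaith fun a => hall _ (hne0 a v hv)
  refine ⟨_, hcard, hdvd, fun h2 => ?_, fun h => h3 (hcard ▸ Dvd.dvd.mul_left h r), fun hs a ha ha1 => ?_⟩
  · obtain ⟨a, ha⟩ := exists_prime_orderOf_dvd_card' 2 h2
    have haa : ((a : A) : Aut V) * (a : A) = 1 := by
      have := pow_orderOf_eq_one a
      rw [ha, pow_two] at this
      exact congrArg (fun z : MulAction.stabilizer A v => ((z : A) : Aut V)) this
    have hsq := card_le_fixS_sq hV haa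
    rw [hn] at hsq
    have h3' : 2 < Nat.card (fixS ((a : A) : Aut V)) := by
      by_contra h
      push Not at h
      have := Nat.mul_le_mul h h
      omega
    obtain ⟨w, hw, hw0, hwv⟩ : ∃ w ∈ fixS ((a : A) : Aut V), w ≠ 0 ∧ w ≠ v := by
      by_contra hcon
      push Not at hcon
      have hsub : ((fixS ((a : A) : Aut V) : AddSubgroup V) : Set V) ⊆ {0, v} := fun w hw =>
        (em (w = 0)).elim Or.inl fun h => Or.inr (hcon w hw h)
      have h4 := Set.ncard_le_ncard hsub (Set.toFinite _)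
      have h5 : ({0, v} : Set V).ncard ≤ 2 := (Set.ncard_insert_le _ _).trans (by simp)
      rw [← Nat.card_coe_set_eq] at h4
      simp only [SetLike.coe_sort_coe] at h4
      omega
    have := hfix (a : A) a.2 w (hall w hw0) hwv hw
    rw [show a = 1 from Subtype.ext this, orderOf_one] at ha
    omega
  · by_contra hgt
    push Not at hgt
    have : Nontrivial (fixS a) := Finite.one_lt_card_iff_nontrivial.mp hgt
    obtain ⟨⟨w, hw⟩, hw0⟩ := exists_ne (0 : fixS a)
    have hw0' : w ≠ 0 := fun e => hw0 (Subtype.ext e)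
    obtain ⟨b, rfl⟩ := hall w hw0'
    -- every stabiliser has order one
    have hst : MulAction.stabilizer A v = ⊥ := Subgroup.card_eq_one.mp hs
    have hmem : (b : A)⁻¹ * ⟨a, ha⟩ * b ∈ MulAction.stabilizer A v := by
      show ((b : A)⁻¹ * ⟨a, ha⟩ * b) • v = v
      rw [mul_smul, mul_smul, inv_smul_eq_iff]
      exact hw
    rw [hst, Subgroup.mem_bot] at hmem
    refine ha1 (congrArg Subtype.val (?_ : (⟨a, ha⟩ : A) = 1))
    calc (⟨a, ha⟩ : A) = (b : A) * ((b : A)⁻¹ * ⟨a, ha⟩ * b) * (b : A)⁻¹ := by group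
      _ = 1 := by rw [hmem]; group

/-- The module with sixteen elements. -/
theorem sixteen {A : Subgroup (Aut V)} (hsol : Group.IsSolvable A) (hirr : Irr A)
    (hV : ∀ x : V, 2 • x = 0) (hn : Nat.card V = 16) (h3 : ¬ 3 ∣ Nat.card A) :
    A = ⊥ ∨ (Nat.card A ≤ 20 ∧ ∀ a ∈ A, a ≠ 1 → Nat.card (fixS a) ≤ 4) := by
  classical
  rcases trivial_or_normal hsol hirr with h | ⟨r, B, hr, hBn, hB0, hpg, hc, hrA, hrd⟩
  · exact Or.inl h
  right
  haveI := hBn
  rw [hn] at hrd
  have hr5 : r = 5 := by
    have hle : r ≤ 15 := Nat.le_of_dvd (by norm_num) hrd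
    interval_cases r <;> norm_num at *
    exact h3 hrA
  subst hr5
  haveI := Fact.mk hr
  have : Fintype V := Fintype.ofFinite V
  have hne0 : ∀ (a : A) (x : V), x ≠ 0 → a • x ≠ 0 := fun a x hx h =>
    hx (MulAction.injective a (h.trans (smul_zero a).symm))
  have horb5 : ∀ x : V, x ≠ 0 → Nat.card (MulAction.orbit B x) = 5 := by
    intro x hx
    obtain ⟨k, hk⟩ := hpg.card_orbit x
    have hle : Nat.card (MulAction.orbit B x) ≤ 16 := hn ▸ Finite.card_subtype_le (fun y => y ∈ MulAction.orbit B x)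
    rw [hk] at hle ⊢
    rcases k with _ | _ | k
    · exfalso
      refine hx (fixed_eq_bot hirr B hB0 fun b hb => ?_)
      rw [pow_zero, Nat.card_eq_one_iff_unique] at hk
      exact congrArg Subtype.val (hk.1.elim ⟨_, ⟨⟨b, hb⟩, rfl⟩⟩ ⟨x, MulAction.mem_orbit_self x⟩)
    · norm_num
    · exfalso
      have h2 : 5 ^ 2 ≤ 16 := (Nat.pow_le_pow_right (by norm_num) (by omega)).trans hle
      norm_num at h2
  -- some orbit of the normal subgroup is invariant
  let Orb : Finset (Finset V) :=
    (Finset.univ.filter fun x : V => x ≠ 0).image fun x => (MulAction.orbit B x).toFinset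
  have hOrb : ∀ s ∈ Orb, ∀ x ∈ s, s = (MulAction.orbit B x).toFinset := by
    intro s hs x hx
    obtain ⟨y, -, rfl⟩ := Finset.mem_image.mp hs
    rw [Set.mem_toFinset] at hx
    rw [MulAction.orbit_eq_iff.mpr hx]
  have hOcard : Orb.card = 3 := by
    have h1 : (Finset.univ.filter fun x : V => x ≠ 0).card = Orb.card * 5 := by
      rw [← smul_eq_mul, ← Finset.sum_const]
      rw [Finset.card_eq_sum_card_image (fun x => (MulAction.orbit B x).toFinset)]
      refine Finset.sum_congr rfl fun s hs => ?_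
      obtain ⟨y, hy, rfl⟩ := Finset.mem_image.mp hs
      have hy0 : y ≠ 0 := (Finset.mem_filter.mp hy).2
      rw [← horb5 y hy0, Nat.card_eq_fintype_card, ← Set.toFinset_card]
      congr 1
      ext x
      simp only [Finset.mem_filter, Finset.mem_univ, true_and, Set.mem_toFinset]
      constructor
      · rintro ⟨-, h⟩
        exact Set.mem_toFinset.mp (h ▸ Set.mem_toFinset.mpr (MulAction.mem_orbit_self x))
      · intro h
        refine ⟨?_, by rw [Set.toFinset_inj]; exact MulAction.orbit_eq_iff.mpr h⟩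
        obtain ⟨b, rfl⟩ := h
        exact hne0 b y hy0
    rw [Finset.filter_ne', Finset.card_erase_of_mem (Finset.mem_univ _), Finset.card_univ,
      ← Nat.card_eq_fintype_card, hn] at h1
    omega
  have hmap : ∀ (a : A), ∀ s ∈ Orb, s.image (a • ·) ∈ Orb := by
    intro a s hs
    obtain ⟨y, hy, rfl⟩ := Finset.mem_image.mp hs
    refine Finset.mem_image.mpr ⟨a • y, by simpa using hne0 a y (Finset.mem_filter.mp hy).2, ?_⟩
    ext x
    simp only [Set.mem_toFinset, Finset.mem_image]
    constructor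
    · rintro ⟨b, rfl⟩
      refine ⟨(a⁻¹ * b * a) • y, ⟨⟨_, by simpa using hBn.conj_mem (b : A) b.2 a⁻¹⟩, rfl⟩, ?_⟩
      rw [← mul_smul, mul_assoc, mul_inv_cancel_left, mul_smul]
      rfl
    · rintro ⟨_, ⟨b, rfl⟩, rfl⟩
      refine ⟨⟨a * b * a⁻¹, hBn.conj_mem (b : A) b.2 a⟩, ?_⟩
      show (a * b * a⁻¹) • a • y = a • (b : A) • y
      simp only [← mul_smul, inv_mul_cancel_right]
  letI act : MulAction A {s // s ∈ Orb} :=
    { smul := fun a s => ⟨s.1.image (a • ·), hmap a s.1 s.2⟩
      one_smul := fun s => Subtype.ext (show s.1.image ((1 : A) • ·) = s.1 by simp)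
      mul_smul := fun a b s => Subtype.ext (show s.1.image ((a * b) • ·) = (s.1.image (b • ·)).image (a • ·) by
        rw [Finset.image_image]; simp [Function.comp_def, mul_smul]) }
  obtain ⟨s, hs⟩ : ∃ s : {s // s ∈ Orb}, ∀ a : A, a • s = s := by
    by_contra hcon
    push Not at hcon
    have : Nonempty {s // s ∈ Orb} := ⟨⟨_, (Finset.card_pos.mp (by omega : 0 < Orb.card)).choose_spec⟩⟩
    let s : {s // s ∈ Orb} := Classical.arbitrary _
    have hd : Nat.card (MulAction.orbit A s) ∣ Nat.card A := by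
      rw [Nat.card_congr (MulAction.orbitEquivQuotientStabilizer A s)]
      exact Subgroup.card_quotient_dvd_card _
    have hle : Nat.card (MulAction.orbit A s) ≤ 3 := by
      refine (Finite.card_subtype_le _).trans ?_
      rw [Nat.card_eq_fintype_card, Fintype.card_coe, hOcard]
    have hlow : ∀ t : {s // s ∈ Orb}, Nat.card (MulAction.orbit A t) ≠ 1 := by
      intro t ht
      obtain ⟨a, ha⟩ := hcon t
      exact ha (congrArg Subtype.val ((Nat.card_eq_one_iff_unique.mp ht).1.elim
        ⟨a • t, a, rfl⟩ ⟨t, MulAction.mem_orbit_self t⟩))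
    have h2 : Nat.card (MulAction.orbit A s) ≠ 3 := fun e => h3 (e ▸ hd)
    have h0 : 0 < Nat.card (MulAction.orbit A s) :=
      have : Nonempty (MulAction.orbit A s) := ⟨⟨s, MulAction.mem_orbit_self s⟩⟩
      Nat.card_pos
    have hs2 : Nat.card (MulAction.orbit A s) = 2 := by have := hlow s; omega
    -- the remaining point is fixed
    have hcompl : ((MulAction.orbit A s)ᶜ : Set {s // s ∈ Orb}).ncard = 1 := by
      rw [Set.ncard_compl, ← Nat.card_coe_set_eq, hs2, Nat.card_eq_fintype_card, Fintype.card_coe, hOcard]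
    obtain ⟨t, ht⟩ := Set.ncard_eq_one.mp hcompl
    obtain ⟨a, ha⟩ := hcon t
    have : a • t ∈ ((MulAction.orbit A s)ᶜ : Set {s // s ∈ Orb}) := by
      intro hmem
      have htm : t ∈ ((MulAction.orbit A s)ᶜ : Set {s // s ∈ Orb}) := by rw [ht]; rfl
      refine htm ?_
      rw [← inv_smul_smul a t]
      exact MulAction.mem_orbit_of_mem_orbit a⁻¹ hmem
    rw [ht] at this
    exact ha this
  obtain ⟨v, hv0, hsv⟩ : ∃ v : V, v ≠ 0 ∧ (MulAction.orbit B v).toFinset = s.1 := by
    obtain ⟨y, hy, h⟩ := Finset.mem_image.mp s.2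
    exact ⟨y, (Finset.mem_filter.mp hy).2, h⟩
  have hinv : ∀ a : A, ∀ x ∈ MulAction.orbit B v, a • x ∈ MulAction.orbit B v := by
    intro a x hx
    rw [← Set.mem_toFinset, hsv] at hx ⊢
    have := congrArg Subtype.val (hs a)
    rw [← this]
    exact Finset.mem_image.mpr ⟨x, hx, rfl⟩
  have hspan : AddSubgroup.closure (MulAction.orbit B v) = ⊤ := by
    rcases hirr (AddSubgroup.closure (MulAction.orbit B v)) (fun a ha x hx => by
      induction hx using AddSubgroup.closure_induction with
      | mem x hx => exact AddSubgroup.subset_closure (hinv ⟨a, ha⟩ x hx)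
      | zero => rw [smul_zero]; exact zero_mem _
      | add x y _ _ h1 h2 => rw [smul_add]; exact add_mem h1 h2
      | neg x _ h1 => rw [smul_neg]; exact neg_mem h1) with h | h
    · exact absurd (AddSubgroup.mem_bot.mp (h ▸ AddSubgroup.subset_closure (MulAction.mem_orbit_self v))) hv0
    · exact h
  have hfaith : ∀ a : A, (∀ x ∈ MulAction.orbit B v, a • x = x) → a = 1 := by
    intro a ha
    refine Subtype.ext (aut_ext fun x => ?_)
    rw [OneMemClass.coe_one, one_smul]
    have hx : x ∈ AddSubgroup.closure (MulAction.orbit B v) := by rw [hspan]; trivial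
    exact (AddSubgroup.closure_le (fixS ((a : A) : Aut V))).mpr ha hx
  obtain ⟨hcard, hfix, hdvd⟩ := regular_facts hr B hc (horb5 v hv0) hfaith
    fun a => hinv a v (MulAction.mem_orbit_self v)
  refine ⟨by have := Nat.le_of_dvd (by norm_num) hdvd; omega, fun a ha ha1 => ?_⟩
  by_contra hgt
  push Not at hgt
  -- `a` moves points by a fixed vector
  let ga : V →+ V := (a : AddMonoid.End V)
  let f : V →+ V := ga - AddMonoidHom.id V
  have hker : f.ker = fixS a := by
    ext x
    show a • x - x = 0 ↔ a • x = x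
    exact sub_eq_zero
  have hr2 : Nat.card f.range ≤ 2 := by
    have hmul := AddSubgroup.card_mul_index f.ker
    rw [AddSubgroup.index_ker, hker, hn] at hmul
    have hd : Nat.card f.range ∣ 16 := Dvd.intro_left _ hmul
    have h4 : Nat.card f.range ≤ 3 := by nlinarith
    by_contra hlt
    have : Nat.card f.range = 3 := by omega
    rw [this] at hd
    norm_num at hd
  obtain ⟨c, hc2⟩ : ∃ c : V, ∀ x : V, a • x = x ∨ a • x = x + c := by
    by_contra hcon
    push Not at hcon
    obtain ⟨x, hx1, -⟩ := hcon 0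
    obtain ⟨y, hy1, hy2⟩ := hcon (a • x - x)
    have hsub : ({0, a • x - x, a • y - y} : Set V) ⊆ (f.range : Set V) := by
      rintro z (rfl | rfl | rfl)
      · exact f.range.zero_mem
      · exact ⟨x, rfl⟩
      · exact ⟨y, rfl⟩
    have h3c : ({0, a • x - x, a • y - y} : Set V).ncard = 3 :=
      Set.ncard_eq_three.mpr ⟨_, _, _, (sub_ne_zero.mpr hx1).symm, (sub_ne_zero.mpr hy1).symm,
        fun e => hy2 (by rw [e]; abel), rfl⟩
    have := Set.ncard_le_ncard hsub (Set.toFinite _)
    rw [h3c, ← Nat.card_coe_set_eq] at this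
    simp only [SetLike.coe_sort_coe] at this
    omega
  -- at most one point of the orbit is fixed
  set O := (MulAction.orbit B v).toFinset with hO
  have hOc : O.card = 5 := by rw [hO, Set.toFinset_card, ← Nat.card_eq_fintype_card, horb5 v hv0]
  have hone : (O.filter fun x => a • x = x).card ≤ 1 := by
    refine Finset.card_le_one.mpr fun x hx y hy => ?_
    simp only [Finset.mem_filter, hO, Set.mem_toFinset] at hx hy
    by_contra hxy
    obtain ⟨b, rfl⟩ := hx.1
    have hyb : (b : A)⁻¹ • y ∈ MulAction.orbit B v := hinv _ _ hy.1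
    have := hfix ((b : A)⁻¹ * ⟨a, ha⟩ * b)
      (by rw [mul_smul, mul_smul, inv_smul_eq_iff]; exact hx.2) ((b : A)⁻¹ • y) hyb
      (fun e => hxy (by rw [inv_smul_eq_iff.mp e]; rfl))
      (by rw [mul_smul, mul_smul, smul_inv_smul]; exact congrArg ((b : A)⁻¹ • ·) hy.2)
    refine ha1 (congrArg Subtype.val (?_ : (⟨a, ha⟩ : A) = 1))
    calc (⟨a, ha⟩ : A) = (b : A) * ((b : A)⁻¹ * ⟨a, ha⟩ * b) * (b : A)⁻¹ := by group
      _ = 1 := by rw [this]; group
  have hsum : ∑ x ∈ O, x = 0 := by
    refine fixed_eq_bot hirr B hB0 fun b hb => ?_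
    rw [Finset.smul_sum]
    refine Finset.sum_bij (fun x _ => (b : A) • x) ?_ ?_ ?_ ?_
    · intro x hx
      rw [hO, Set.mem_toFinset] at hx ⊢
      exact hinv b x hx
    · exact fun x _ y _ h => MulAction.injective (b : A) h
    · intro y hy
      refine ⟨(b : A)⁻¹ • y, ?_, smul_inv_smul _ _⟩
      rw [hO, Set.mem_toFinset] at hy ⊢
      exact hinv _ y hy
    · exact fun x _ => rfl
  set M := O.filter fun x => ¬ a • x = x with hM
  have hM4 : 4 ≤ M.card := by
    have := Finset.card_filter_add_card_filter_not (s := O) (fun x => a • x = x)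
    rw [← hM] at this
    omega
  have hMpair : ∀ x ∈ M, x + c ∈ O := by
    intro x hx
    simp only [hM, Finset.mem_filter, hO, Set.mem_toFinset] at hx
    rcases hc2 x with h | h
    · exact absurd h hx.2
    · rw [hO, Set.mem_toFinset, ← h]
      exact hinv ⟨a, ha⟩ x hx.1
  obtain ⟨x1, hx1⟩ := Finset.card_pos.mp (by omega : 0 < M.card)
  obtain ⟨x3, hx3, hx31, hx32⟩ : ∃ x3 ∈ M, x3 ≠ x1 ∧ x3 ≠ x1 + c := by
    by_contra hcon
    push Not at hcon
    have hsub : M ⊆ {x1, x1 + c} := fun y hy => by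
      simp only [Finset.mem_insert, Finset.mem_singleton]
      exact (em (y = x1)).imp id (hcon y hy)
    have := (Finset.card_le_card hsub).trans Finset.card_le_two
    omega
  have hc0 : c ≠ 0 := by
    intro e
    have := (Finset.mem_filter.mp hx1).2
    rcases hc2 x1 with h | h
    · exact this h
    · rw [e, add_zero] at h; exact this h
  have hcc : c + c = 0 := by rw [← two_nsmul]; exact hV c
  set T : Finset V := {x1, x1 + c, x3, x3 + c}
  have hT4 : T.card = 4 := by
    have e1 : x1 ≠ x1 + c := fun e => hc0 (by simpa using e.symm)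
    have e2 : x3 ≠ x3 + c := fun e => hc0 (by simpa using e.symm)
    have e3 : x1 ≠ x3 + c := fun e => hx32 (by rw [e, add_assoc, hcc, add_zero])
    have e4 : x1 + c ≠ x3 + c := fun e => hx31 (add_right_cancel e).symm
    simp only [T]
    rw [Finset.card_insert_of_notMem (by simp [e1, hx31.symm, e3]),
      Finset.card_insert_of_notMem (by simp [hx32.symm, e4]),
      Finset.card_insert_of_notMem (by simp [e2]), Finset.card_singleton]
  have hTO : T ⊆ O := by
    intro y hy
    simp only [T, Finset.mem_insert, Finset.mem_singleton] at hy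
    rcases hy with rfl | rfl | rfl | rfl
    · exact (Finset.mem_filter.mp hx1).1
    · exact hMpair _ hx1
    · exact (Finset.mem_filter.mp hx3).1
    · exact hMpair _ hx3
  obtain ⟨z, hz⟩ := Finset.card_eq_one.mp (show (O \ T).card = 1 by
    rw [Finset.card_sdiff_of_subset hTO, hOc, hT4])
  have hT0 : ∑ x ∈ T, x = 0 := by
    have e1 : x1 ≠ x1 + c := fun e => hc0 (by simpa using e.symm)
    have e2 : x3 ≠ x3 + c := fun e => hc0 (by simpa using e.symm)
    have e3 : x1 ≠ x3 + c := fun e => hx32 (by rw [e, add_assoc, hcc, add_zero])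
    have e4 : x1 + c ≠ x3 + c := fun e => hx31 (add_right_cancel e).symm
    simp only [T]
    rw [Finset.sum_insert (by simp [e1, hx31.symm, e3]),
      Finset.sum_insert (by simp [hx32.symm, e4]),
      Finset.sum_insert (by simp [e2]), Finset.sum_singleton]
    have h1 := hV x1
    have h2 := hV x3
    rw [two_nsmul] at h1 h2
    calc x1 + (x1 + c + (x3 + (x3 + c))) = (x1 + x1) + (x3 + x3) + (c + c) := by abel
      _ = 0 := by rw [h1, h2, hcc, add_zero, add_zero]
  rw [← Finset.sum_sdiff hTO, hT0, hz, Finset.sum_singleton, add_zero] at hsum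
  have hzO : z ∈ O := (Finset.mem_sdiff.mp (hz ▸ Finset.mem_singleton_self z)).1
  rw [hO, Set.mem_toFinset] at hzO
  obtain ⟨b, rfl⟩ := hzO
  exact hne0 b v hv0 hsum

end CfsgLib.ColourThree
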