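import Cfsg.Agent.OddBase.Gluck

/-!
Colourings with three colours of finite sets acted on by permutation groups of order prime to three:
composition over invariant subsets and blocks, and the count of colourings fixed by one element.
-/

set_option autoImplicit false
set_option linter.style.haveILetI false

universe u

namespace CfsgLib.ColourThree

open Equiv CfsgLib.OddBase

variable {Ω : Type u}

/-- A colouring by three colours fixed by the identity only. -/
def Col3 (S : Subgroup (Perm Ω)) : Prop :=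
  ∃ δ : Ω → ZMod 3, ∀ g ∈ S, (∀ x, δ (g x) = δ x) → g = 1

open scoped Classical in
lemma col3_union (S : Subgroup (Perm Ω)) (P : Ω → Prop) (h : ∀ g ∈ S, ∀ x, P (g x) ↔ P x)
    (h1 : Col3 (resPerm S P h).range)
    (h2 : Col3 (resPerm S (fun x => ¬ P x) (fun g hg x => not_congr (h g hg x))).range) : Col3 S := by
  obtain ⟨a, ha⟩ := h1
  obtain ⟨b, hb⟩ := h2
  refine ⟨fun x => if hx : P x then a ⟨x, hx⟩ else b ⟨x, hx⟩, fun g hg hfix => ?_⟩
  have e1 := ha _ ⟨⟨g, hg⟩, rfl⟩ fun x => by
    have := hfix x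
    simp only [x.2, (h g hg x).mpr x.2, dif_pos] at this
    exact this
  have e2 := hb _ ⟨⟨g, hg⟩, rfl⟩ fun x => by
    have := hfix x
    simp only [x.2, mt (h g hg x).mp x.2, dif_neg, not_false_iff] at this
    exact this
  ext x
  by_cases hx : P x
  · exact congrArg Subtype.val (Perm.ext_iff.mp e1 ⟨x, hx⟩)
  · exact congrArg Subtype.val (Perm.ext_iff.mp e2 ⟨x, hx⟩)

/-- A colouring cannot be translated by an element of order prime to three. -/
lemma shift_eq_zero {t : Perm Ω} {n : ℕ} (hn : t ^ n = 1) (h3 : ¬ 3 ∣ n) (P : Ω → Prop)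
    (hP : ∀ x, P x → P (t x)) (η : Ω → ZMod 3) (c : ZMod 3) (h : ∀ x, P x → η (t x) = η x + c)
    (x : Ω) (hx : P x) : c = 0 := by
  have key : ∀ k : ℕ, P ((t ^ k) x) ∧ η ((t ^ k) x) = η x + k * c := by
    intro k
    induction k with
    | zero => simpa using hx
    | succ k ih =>
      rw [pow_succ', Perm.mul_apply]
      refine ⟨hP _ ih.1, ?_⟩
      rw [h _ ih.1, ih.2]
      push_cast
      ring
  have := (key n).2
  rw [hn, Perm.one_apply] at this
  have h0 : (n : ZMod 3) * c = 0 := by linear_combination -this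
  have hne : (n : ZMod 3) ≠ 0 := fun e => h3 ((ZMod.natCast_eq_zero_iff n 3).mp e)
  exact (mul_eq_zero.mp h0).resolve_left hne

/-- Composition of a colouring of the blocks with one inside a block. -/
lemma col3_blocks {Q : Type u} (S : Subgroup (Perm Ω)) (h3 : ¬ 3 ∣ Nat.card S) (φ : S →* Perm Q)
    (π : Ω → Q) (hπ : ∀ (g : S) x, π ((g : Perm Ω) x) = φ g (π x)) (j0 : Q) (sec : Q → S)
    (hsec : ∀ j, φ (sec j) j0 = j) (hne : ∃ x, π x = j0) (η : Ω → ZMod 3)
    (hη : ∀ t : S, φ t j0 = j0 → (∀ x, π x = j0 → η ((t : Perm Ω) x) = η x) →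
      ∀ x, π x = j0 → (t : Perm Ω) x = x)
    (hε : Col3 φ.range) : Col3 S := by
  obtain ⟨ε, hε⟩ := hε
  refine ⟨fun x => η ((↑(sec (π x))⁻¹ : Perm Ω) x) + ε (π x), fun g hg hfix => ?_⟩
  set G : S := ⟨g, hg⟩ with hG
  have hgj : ∀ x, π (g x) = φ G (π x) := fun x => hπ G x
  have key : ∀ j, φ ((sec (φ G j))⁻¹ * G * sec j) j0 = j0 := by
    intro j
    simp only [map_mul, map_inv, Perm.mul_apply, hsec]
    rw [Perm.inv_eq_iff_eq]
    exact (hsec _).symm
  have hcol : ∀ j x, π x = j0 →
      η ((↑((sec (φ G j))⁻¹ * G * sec j) : Perm Ω) x) + ε (φ G j) = η x + ε j := by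
    intro j x hx
    have hpx : π ((sec j : Perm Ω) x) = j := by rw [hπ, hx, hsec]
    have := hfix ((sec j : Perm Ω) x)
    simp only [hgj, hpx] at this
    simp only [Subgroup.coe_mul, Perm.mul_apply]
    rw [this]
    simp
  have heps : ∀ j, ε (φ G j) = ε j := by
    intro j
    set t := (sec (φ G j))⁻¹ * G * sec j
    obtain ⟨x, hx⟩ := hne
    have hp : ∀ x, π x = j0 → π ((t : Perm Ω) x) = j0 := fun x hx => by rw [hπ, hx, key j]
    have h0 := shift_eq_zero (t := (t : Perm Ω)) (n := Nat.card S)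
      (by rw [← Subgroup.coe_pow, pow_card_eq_one', Subgroup.coe_one]) h3
      (fun y => π y = j0) hp η (ε j - ε (φ G j))
      (fun y hy => by linear_combination hcol j y hy) x hx
    exact (sub_eq_zero.mp h0).symm
  have hφ : φ G = 1 := hε _ ⟨G, rfl⟩ heps
  ext x
  set j := π x
  have hj : φ G j = j := by rw [hφ]; rfl
  set t := (sec (φ G j))⁻¹ * G * sec j
  have hy : π ((↑(sec j)⁻¹ : Perm Ω) x) = j0 := by
    rw [hπ, map_inv, Perm.inv_eq_iff_eq]
    exact (hsec j).symm
  have h3' := hη t (key j) (fun y hy' => by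
    have := hcol j y hy'
    rw [heps j] at this
    exact add_right_cancel this) _ hy
  simp only [t, hj, Subgroup.coe_mul, Subgroup.coe_inv, Perm.mul_apply] at h3'
  simp only [Perm.one_apply]
  have h4 := congrArg (sec j : Perm Ω) h3'
  simpa using h4

/-- An element with at most `f` fixed points fixes at most `3 ^ ((n + f) / 2)` colourings. -/
lemma card_fixed_colourings [Finite Ω] (g : Perm Ω) {f : ℕ}
    (hf : Nat.card {x : Ω // g x = x} ≤ f) :
    Nat.card {δ : Ω → ZMod 3 // ∀ x, δ (g x) = δ x} ≤ 3 ^ ((Nat.card Ω + f) / 2) := by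
  classical
  have : Fintype Ω := Fintype.ofFinite Ω
  let O := MulAction.orbitRel.Quotient (Subgroup.zpowers g) Ω
  let m : Ω → O := fun x => Quotient.mk'' x
  have hm : ∀ x, m (g x) = m x := fun x =>
    Quotient.sound' ⟨⟨g, Subgroup.mem_zpowers g⟩, rfl⟩
  have hinv : ∀ δ : Ω → ZMod 3, (∀ x, δ (g x) = δ x) → ∀ z : ℤ, ∀ x, δ ((g ^ z) x) = δ x := by
    intro δ hδ z
    induction z using Int.induction_on with
    | zero => simp
    | succ k ih => intro x; rw [zpow_add_one, Perm.mul_apply, ih, hδ]
    | pred k ih =>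
      intro x
      rw [zpow_sub_one, Perm.mul_apply, ih, ← hδ (g⁻¹ x)]
      simp
  have hle : Nat.card {δ : Ω → ZMod 3 // ∀ x, δ (g x) = δ x} ≤ Nat.card (O → ZMod 3) := by
    refine Nat.card_le_card_of_injective (fun δ ω => δ.1 ω.out) fun a b hab =>
      Subtype.ext (funext fun x => ?_)
    obtain ⟨⟨c, z, rfl⟩, hc⟩ := Quotient.exact' (Quotient.out_eq' (m x)).symm
    have h := congrFun hab (m x)
    simp only at h
    rw [← hc]
    change a.1 ((g ^ z) _) = b.1 ((g ^ z) _)
    rw [hinv a.1 a.2, hinv b.1 b.2]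
    exact h
  refine hle.trans ?_
  rw [Nat.card_fun, Nat.card_zmod]
  refine Nat.pow_le_pow_right (by norm_num) ?_
  rw [Nat.le_div_iff_mul_le (by norm_num), Nat.card_eq_fintype_card (α := O),
    Nat.card_eq_fintype_card (α := Ω)]
  calc Fintype.card O * 2 = ∑ _ω : O, 2 := by simp
    _ ≤ ∑ ω : O, ((Finset.univ.filter fun x => m x = ω).card +
          ((Finset.univ.filter fun x => g x = x).filter fun x => m x = ω).card) := by
        refine Finset.sum_le_sum fun ω _ => ?_
        obtain ⟨x, rfl⟩ : ∃ x, m x = ω := ⟨ω.out, Quotient.out_eq' ω⟩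
        by_cases hx : g x = x
        · have h1 : 0 < (Finset.univ.filter fun y => m y = m x).card :=
            Finset.card_pos.mpr ⟨x, by simp⟩
          have h2 : 0 < ((Finset.univ.filter fun y => g y = y).filter fun y => m y = m x).card :=
            Finset.card_pos.mpr ⟨x, by simp [hx]⟩
          omega
        · refine le_trans ?_ (Nat.le_add_right _ _)
          exact Finset.one_lt_card.mpr ⟨g x, by simp [hm], x, by simp, hx⟩
    _ = Fintype.card Ω + (Finset.univ.filter fun x => g x = x).card := by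
        rw [Finset.sum_add_distrib,
          ← Finset.card_eq_sum_card_fiberwise (fun x _ => Finset.mem_univ (m x)),
          ← Finset.card_eq_sum_card_fiberwise (fun x _ => Finset.mem_univ (m x)), Finset.card_univ]
    _ ≤ _ := by
        refine Nat.add_le_add_left ?_ _
        rw [Nat.card_eq_fintype_card, Fintype.card_subtype] at hf
        exact hf

/-- Double counting: if fixed colourings are few, some colouring is fixed by the identity only. -/
lemma exists_free' {G X : Type*} [Group G] [Fintype G] [DecidableEq G] [Fintype X] [MulAction G X]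
    (h : ∑ g ∈ Finset.univ.erase (1 : G), Nat.card {x : X // g • x = x} < Nat.card X) :
    ∃ x : X, ∀ g : G, g • x = x → g = 1 := by
  classical
  by_contra hcon
  push Not at hcon
  have hge : ∀ x : X, 1 ≤ ((Finset.univ.erase (1 : G)).filter fun g => g • x = x).card := by
    intro x
    obtain ⟨g, hg, hg1⟩ := hcon x
    exact Finset.card_pos.mpr ⟨g, by simp [hg, hg1]⟩
  have h1 : ∑ g ∈ Finset.univ.erase (1 : G), Nat.card {x : X // g • x = x} =
      ∑ x : X, ((Finset.univ.erase (1 : G)).filter fun g => g • x = x).card := by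
    simp only [Nat.card_eq_fintype_card, Fintype.card_subtype, Finset.card_filter]
    exact Finset.sum_comm
  have h2 : Nat.card X ≤ ∑ x : X, ((Finset.univ.erase (1 : G)).filter fun g => g • x = x).card := by
    calc Nat.card X = ∑ _x : X, 1 := by simp [Nat.card_eq_fintype_card]
      _ ≤ _ := Finset.sum_le_sum fun x _ => hge x
  omega

/-- Enough colourings are left over when the group is small. -/
lemma col3_of_count [Finite Ω] (S : Subgroup (Perm Ω)) {f : ℕ}
    (hf : ∀ g ∈ S, g ≠ 1 → Nat.card {x : Ω // g x = x} ≤ f)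
    (hS : Nat.card S * 3 ^ ((Nat.card Ω + f) / 2) ≤ 3 ^ Nat.card Ω) : Col3 S := by
  classical
  have : Fintype Ω := Fintype.ofFinite Ω
  have : Fintype S := Fintype.ofFinite S
  letI : MulAction S (Ω → ZMod 3) := arrowAction
  set B := 3 ^ ((Nat.card Ω + f) / 2)
  have hsum : ∑ g ∈ Finset.univ.erase (1 : S), Nat.card {δ : Ω → ZMod 3 // g • δ = δ} <
      Nat.card (Ω → ZMod 3) := by
    refine lt_of_le_of_lt (Finset.sum_le_sum (g := fun _ => B) fun g hg => ?_) ?_
    · have hg1 : (g : Perm Ω) ≠ 1 := fun h => Finset.ne_of_mem_erase hg (Subtype.ext h)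
      refine le_trans (Nat.card_le_card_of_injective (fun δ => (⟨δ.1, fun x => ?_⟩ :
        {δ : Ω → ZMod 3 // ∀ x, δ ((g : Perm Ω) x) = δ x})) fun a b h =>
          Subtype.ext (congrArg (fun z : {δ : Ω → ZMod 3 // ∀ x, δ ((g : Perm Ω) x) = δ x} => z.1) h))
        (card_fixed_colourings _ (hf _ g.2 hg1))
      have := congrFun δ.2 ((g : Perm Ω) x)
      change δ.1 ((g⁻¹ : S).1 ((g : Perm Ω) x)) = _ at this
      simpa using this.symm
    · rw [Finset.sum_const, smul_eq_mul, Finset.card_erase_of_mem (Finset.mem_univ _),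
        Finset.card_univ, Nat.card_fun, Nat.card_zmod, ← Nat.card_eq_fintype_card]
      have hS0 : 0 < Nat.card S := Nat.card_pos
      have h1 : (Nat.card S - 1) * B < Nat.card S * B :=
        Nat.mul_lt_mul_of_pos_right (by omega) (by positivity)
      exact lt_of_lt_of_le h1 hS
  obtain ⟨δ, hδ⟩ := exists_free' (by convert hsum using 3)
  refine ⟨δ, fun g hg h => congrArg Subtype.val (hδ ⟨g, hg⟩ (funext fun x => ?_))⟩
  show δ ((⟨g, hg⟩ : S)⁻¹.1 x) = δ x
  have := h (g⁻¹ x)
  simpa using this.symm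

end CfsgLib.ColourThree
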