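import Cfsg.Agent.OddBase.Basic

/-!
An affine frame with marked affine combinations: a colouring with three colours of a vector space
fixed by no nontrivial affine map, in characteristic at least five, and in characteristic two from
dimension five on.
-/

set_option autoImplicit false
set_option linter.style.haveILetI false

universe u

namespace CfsgLib.ColourThree

open CfsgLib.OddBase

/-- The combination `2 eᵢ - eⱼ`. -/
def arrowMark {m : ℕ} (p : ℕ) (i j : Fin m) : Fin m → ZMod p :=
  fun l => (if l = i then 2 else 0) - (if l = j then 1 else 0)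

lemma arrowMark_injective {m p : ℕ} [Fact p.Prime] (h2 : (2 : ZMod p) ≠ 0) (h3 : (3 : ZMod p) ≠ 0)
    {a b a' b' : Fin m} (hab : a ≠ b) (h : arrowMark p a b = arrowMark p a' b') :
    a = a' ∧ b = b' := by
  refine ⟨?_, ?_⟩
  · have ha := congrFun h a
    simp only [arrowMark, if_true, if_neg hab, sub_zero] at ha
    by_contra hne
    rw [if_neg hne] at ha
    by_cases hb : a = b'
    · rw [if_pos hb] at ha
      exact h3 (by linear_combination ha)
    · rw [if_neg hb, sub_zero] at ha
      exact h2 ha
  · have hb := congrFun h b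
    simp only [arrowMark, if_true, if_neg hab.symm, zero_sub] at hb
    by_contra hne
    rw [if_neg hne, sub_zero] at hb
    by_cases ha : b = a'
    · rw [if_pos ha] at hb
      exact h3 (by linear_combination -hb)
    · rw [if_neg ha] at hb
      exact one_ne_zero (α := ZMod p) (by linear_combination -hb)

lemma rigid_arrows {m p : ℕ} [Fact p.Prime] (h2 : (2 : ZMod p) ≠ 0) (h3 : (3 : ZMod p) ≠ 0)
    (σ : Equiv.Perm (Fin m))
    (h : ∀ i j : Fin m, (j : ℕ) = i + 1 →
      ∃ i' j' : Fin m, (j' : ℕ) = i' + 1 ∧ (fun l => arrowMark p i j (σ.symm l)) = arrowMark p i' j') :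
    σ = 1 := by
  have hstep : ∀ i j : Fin m, (j : ℕ) = i + 1 → (σ j : ℕ) = σ i + 1 := by
    intro i j hij
    obtain ⟨i', j', hij', he⟩ := h i j hij
    have he' : arrowMark p (σ i) (σ j) = arrowMark p i' j' := by
      rw [← he]
      funext l
      simp only [arrowMark, Equiv.symm_apply_eq]
    have hne : i ≠ j := fun e => by rw [e] at hij; omega
    obtain ⟨e1, e2⟩ := arrowMark_injective h2 h3 (σ.injective.ne hne) he'
    rw [e1, e2, hij']
  have hlin : ∀ (d : ℕ) (hd : d < m), (σ ⟨d, hd⟩ : ℕ) = σ ⟨0, by omega⟩ + d := by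
    intro d
    induction d with
    | zero => intro hd; rfl
    | succ d ih => intro hd; rw [hstep ⟨d, by omega⟩ ⟨d + 1, hd⟩ rfl, ih]; omega
  ext i
  have hm : 0 < m := i.pos
  have h1 := hlin (m - 1) (by omega)
  have h2' := (σ ⟨m - 1, by omega⟩).isLt
  rw [hlin i i.isLt]
  simp only [Equiv.Perm.one_apply]
  omega

/-- The family of windows of width three with the initial segment of width five. -/
def inFamily {m : ℕ} (s : Fin m → Prop) : Prop :=
  (∃ i : ℕ, i + 2 < m ∧ ∀ l, s l ↔ i ≤ (l : ℕ) ∧ (l : ℕ) ≤ i + 2) ∨ ∀ l, s l ↔ (l : ℕ) ≤ 4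

lemma rigid_windows {m : ℕ} (hm : 6 ≤ m) (σ : Equiv.Perm (Fin m))
    (h : ∀ s : Fin m → Prop, inFamily s → inFamily fun l => s (σ.symm l)) : σ = 1 := by
  have hne : ∀ {a b : Fin m}, a ≠ b → (σ a : ℕ) ≠ σ b := fun hab e =>
    hab (σ.injective (Fin.ext e))
  have hw : ∀ i : ℕ, i + 2 < m → ∃ j : ℕ, j + 2 < m ∧
      ∀ l : Fin m, (j ≤ (σ l : ℕ) ∧ (σ l : ℕ) ≤ j + 2) ↔ i ≤ (l : ℕ) ∧ (l : ℕ) ≤ i + 2 := by
    intro i hi
    rcases h (fun l => i ≤ (l : ℕ) ∧ (l : ℕ) ≤ i + 2) (Or.inl ⟨i, hi, fun _ => Iff.rfl⟩) with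
      ⟨j, hj, hjl⟩ | hq
    · exact ⟨j, hj, fun l => by have := hjl (σ l); simp only [Equiv.symm_apply_apply] at this; exact this.symm⟩
    · exfalso
      have key : ∀ (x : ℕ) (hx : x < m), x ≤ 4 → i ≤ (σ.symm ⟨x, hx⟩ : ℕ) ∧
          (σ.symm ⟨x, hx⟩ : ℕ) ≤ i + 2 := fun x hx hx4 => (hq ⟨x, hx⟩).mpr hx4
      have d : ∀ (x y : ℕ) (hx : x < m) (hy : y < m), x ≠ y →
          (σ.symm ⟨x, hx⟩ : ℕ) ≠ (σ.symm ⟨y, hy⟩ : ℕ) := fun x y hx hy hxy e =>
        hxy (Fin.mk.inj (σ.symm.injective (Fin.ext e)))
      have := key 0 (by omega) (by omega)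
      have := key 1 (by omega) (by omega)
      have := key 2 (by omega) (by omega)
      have := key 3 (by omega) (by omega)
      have := d 0 1 (by omega) (by omega) (by omega)
      have := d 0 2 (by omega) (by omega) (by omega)
      have := d 0 3 (by omega) (by omega) (by omega)
      have := d 1 2 (by omega) (by omega) (by omega)
      have := d 1 3 (by omega) (by omega) (by omega)
      have := d 2 3 (by omega) (by omega) (by omega)
      omega
  have hq : ∀ l : Fin m, (σ l : ℕ) ≤ 4 ↔ (l : ℕ) ≤ 4 := by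
    rcases h (fun l => (l : ℕ) ≤ 4) (Or.inr fun _ => Iff.rfl) with ⟨j, hj, hjl⟩ | hq
    · exfalso
      have key : ∀ (x : ℕ) (hx : x < m), x ≤ 4 → j ≤ (σ ⟨x, hx⟩ : ℕ) ∧
          (σ ⟨x, hx⟩ : ℕ) ≤ j + 2 := fun x hx hx4 => (hjl _).mp (by
        simp only [Equiv.symm_apply_apply]; exact hx4)
      have d : ∀ (x y : ℕ) (hx : x < m) (hy : y < m), x ≠ y →
          (σ ⟨x, hx⟩ : ℕ) ≠ (σ ⟨y, hy⟩ : ℕ) := fun x y hx hy hxy => hne fun e => hxy (Fin.mk.inj e)
      have := key 0 (by omega) (by omega)
      have := key 1 (by omega) (by omega)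
      have := key 2 (by omega) (by omega)
      have := key 3 (by omega) (by omega)
      have := d 0 1 (by omega) (by omega) (by omega)
      have := d 0 2 (by omega) (by omega) (by omega)
      have := d 0 3 (by omega) (by omega) (by omega)
      have := d 1 2 (by omega) (by omega) (by omega)
      have := d 1 3 (by omega) (by omega) (by omega)
      have := d 2 3 (by omega) (by omega) (by omega)
      omega
    · intro l
      have := hq (σ l)
      simp only [Equiv.symm_apply_apply] at this
      exact this.symm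
  choose f hf hfl using hw
  have finj : ∀ i j (hi : i + 2 < m) (hj : j + 2 < m), f i hi = f j hj → i = j := by
    intro i j hi hj e
    have h1 := hfl i hi ⟨i, by omega⟩
    have h2 := hfl j hj ⟨i, by omega⟩
    have h3 := hfl i hi ⟨j, by omega⟩
    have h4 := hfl j hj ⟨j, by omega⟩
    rw [← e] at h2 h4
    dsimp only at h1 h2 h3 h4
    omega
  have fstep : ∀ i (hi : i + 3 < m),
      f (i + 1) (by omega) = f i (by omega) + 1 ∨ f (i + 1) (by omega) + 1 = f i (by omega) := by
    intro i hi
    have h1 := (hfl i (by omega) ⟨i + 1, by omega⟩).mpr ⟨by simp, by simp⟩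
    have h2 := (hfl i (by omega) ⟨i + 2, by omega⟩).mpr ⟨by simp, by simp⟩
    have h3 := (hfl (i + 1) (by omega) ⟨i + 1, by omega⟩).mpr ⟨by simp, by simp⟩
    have h4 := (hfl (i + 1) (by omega) ⟨i + 2, by omega⟩).mpr ⟨by simp, by simp⟩
    have h5 := hne (a := ⟨i + 1, by omega⟩) (b := ⟨i + 2, by omega⟩) (by simp)
    have h6 : f (i + 1) (by omega) ≠ f i (by omega) := fun e => by
      have := finj _ _ _ _ e
      omega
    omega
  rcases fstep 0 (by omega) with hup | hdown
  · have hlin : ∀ i (hi : i + 3 < m), f i (by omega) = f 0 (by omega) + i ∧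
        f (i + 1) (by omega) = f 0 (by omega) + i + 1 := by
      intro i
      induction i with
      | zero => intro hi; exact ⟨rfl, hup⟩
      | succ i ih =>
        intro hi
        obtain ⟨e1, e2⟩ := ih (by omega)
        refine ⟨e2, ?_⟩
        rcases fstep (i + 1) (by omega) with e | e
        · omega
        · have hne' : f (i + 1 + 1) (by omega) ≠ f i (by omega) := fun e' => by
            have := finj _ _ _ _ e'
            omega
          omega
    have f0 : f 0 (by omega) = 0 := by
      obtain ⟨-, e⟩ := hlin (m - 4) (by omega)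
      have := hf (m - 4 + 1) (by omega)
      omega
    have hfid : ∀ i (hi : i + 2 < m), f i hi = i := by
      intro i hi
      by_cases hi3 : i + 3 < m
      · obtain ⟨e, -⟩ := hlin i hi3
        omega
      · obtain ⟨-, e⟩ := hlin (m - 4) (by omega)
        have e' : m - 4 + 1 = i := by omega
        simp only [e'] at e
        omega
    ext l
    simp only [Equiv.Perm.one_apply]
    have hW : ∀ i, i + 2 < m → ((i ≤ (σ l : ℕ) ∧ (σ l : ℕ) ≤ i + 2) ↔ i ≤ (l : ℕ) ∧ (l : ℕ) ≤ i + 2) :=
      fun i hi => by have := hfl i hi l; rwa [hfid i hi] at this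
    have := l.isLt
    have := (σ l).isLt
    have w1 := hW ((l : ℕ) - 2)
    have w2 := hW ((σ l : ℕ) - 2)
    have w3 := hW ((l : ℕ) + 1)
    have w4 := hW ((σ l : ℕ) + 1)
    omega
  · exfalso
    have hlin : ∀ i (hi : i + 3 < m), f i (by omega) + i = f 0 (by omega) ∧
        f (i + 1) (by omega) + (i + 1) = f 0 (by omega) := by
      intro i
      induction i with
      | zero => intro hi; exact ⟨rfl, hdown⟩
      | succ i ih =>
        intro hi
        obtain ⟨e1, e2⟩ := ih (by omega)
        refine ⟨e2, ?_⟩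
        rcases fstep (i + 1) (by omega) with e | e
        · have hne' : f (i + 1 + 1) (by omega) ≠ f i (by omega) := fun e' => by
            have := finj _ _ _ _ e'
            omega
          omega
        · omega
    obtain ⟨-, e⟩ := hlin (m - 4) (by omega)
    have hb := hf 0 (by omega)
    have q0 := (hq ⟨0, by omega⟩).mpr (by simp)
    have q1 := (hq ⟨1, by omega⟩).mpr (by simp)
    have q2 := (hq ⟨2, by omega⟩).mpr (by simp)
    have w0 := (hfl 0 (by omega) ⟨0, by omega⟩).mpr ⟨by simp, by simp⟩
    have w1 := (hfl 0 (by omega) ⟨1, by omega⟩).mpr ⟨by simp, by simp⟩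
    have w2 := (hfl 0 (by omega) ⟨2, by omega⟩).mpr ⟨by simp, by simp⟩
    have d01 := hne (a := ⟨0, by omega⟩) (b := ⟨1, by omega⟩) (by simp)
    have d02 := hne (a := ⟨0, by omega⟩) (b := ⟨2, by omega⟩) (by simp)
    have d12 := hne (a := ⟨1, by omega⟩) (b := ⟨2, by omega⟩) (by simp)
    omega

/-- The indicator of a set of positions. -/
noncomputable def indMark {m : ℕ} (p : ℕ) (s : Fin m → Prop) : Fin m → ZMod p :=
  fun l => open scoped Classical in if s l then 1 else 0

lemma indMark_injective {m p : ℕ} [Fact p.Prime] {s t : Fin m → Prop}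
    (h : indMark p s = indMark p t) (l : Fin m) : s l ↔ t l := by
  classical
  have := congrFun h l
  unfold indMark at this
  by_cases hs : s l <;> by_cases ht : t l <;> simp_all

/-- A set of marks with which a frame cannot be moved. -/
theorem exists_marks {m p : ℕ} [Fact p.Prime] (hm : (p = 2 ∧ 6 ≤ m) ∨ 5 ≤ p) :
    ∃ M : Set (Fin m → ZMod p), (∀ c ∈ M, ∑ l, c l = 1) ∧
      (∀ c ∈ M, ∀ i, c ≠ Pi.single i 1) ∧
      ∀ σ : Equiv.Perm (Fin m), (∀ c ∈ M, (fun l => c (σ.symm l)) ∈ M) → σ = 1 := by
  classical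
  rcases hm with ⟨rfl, hm⟩ | hp
  · refine ⟨{c | ∃ s, inFamily s ∧ c = indMark 2 s}, ?_, ?_, ?_⟩
    · rintro _ ⟨s, hs, rfl⟩
      simp only [indMark, Finset.sum_boole]
      rcases hs with ⟨i, hi, hl⟩ | hl
      · rw [show (Finset.univ.filter fun l => s l) =
            ({⟨i, by omega⟩, ⟨i + 1, by omega⟩, ⟨i + 2, hi⟩} : Finset (Fin m)) by
          ext l
          simp only [Finset.mem_filter, Finset.mem_univ, true_and, Finset.mem_insert,
            Finset.mem_singleton, hl, Fin.ext_iff]
          omega]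
        rw [Finset.card_insert_of_notMem (by simp [Fin.ext_iff]),
          Finset.card_insert_of_notMem (by simp [Fin.ext_iff]), Finset.card_singleton]
        rfl
      · rw [show (Finset.univ.filter fun l => s l) =
            Finset.univ.map (Fin.castLEEmb (show 5 ≤ m by omega)) by
          ext l
          simp only [Finset.mem_filter, Finset.mem_univ, true_and, Finset.mem_map, hl,
            Fin.castLEEmb_apply]
          exact ⟨fun h => ⟨⟨l, by omega⟩, Fin.ext rfl⟩, fun ⟨a, ha⟩ => by rw [← ha]; exact Nat.le_of_lt_succ a.isLt⟩]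
        rw [Finset.card_map, Finset.card_univ, Fintype.card_fin]
        rfl
    · rintro _ ⟨s, hs, rfl⟩ i h
      have key : ∀ l, s l → l = i := fun l hl => by
        by_contra hne
        have := congrFun h l
        rw [Pi.single_eq_of_ne hne] at this
        simp [indMark, hl] at this
      rcases hs with ⟨j, hj, hl⟩ | hl
      · have e1 := key ⟨j, by omega⟩ ((hl _).mpr ⟨le_refl _, by simp⟩)
        have e2 := key ⟨j + 1, by omega⟩ ((hl _).mpr ⟨by simp, by simp⟩)
        rw [← e1, Fin.ext_iff] at e2
        simp at e2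
      · have e1 := key ⟨0, by omega⟩ ((hl _).mpr (by simp))
        have e2 := key ⟨1, by omega⟩ ((hl _).mpr (by simp))
        rw [← e1, Fin.ext_iff] at e2
        simp at e2
    · intro σ hσ
      refine rigid_windows hm σ fun s hs => ?_
      obtain ⟨t, ht, he⟩ := hσ _ ⟨s, hs, rfl⟩
      have heq : (fun l => s (σ.symm l)) = t := funext fun l =>
        propext (indMark_injective (p := 2) (s := fun l => s (σ.symm l)) he l)
      rw [heq]
      exact ht
  · have hc : ∀ n : ℕ, 0 < n → n < p → (n : ZMod p) ≠ 0 := fun n h0 hn h => by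
      have := Nat.le_of_dvd h0 ((ZMod.natCast_eq_zero_iff n p).mp h)
      omega
    have h2 : (2 : ZMod p) ≠ 0 := by exact_mod_cast hc 2 (by norm_num) (by omega)
    have h3 : (3 : ZMod p) ≠ 0 := by exact_mod_cast hc 3 (by norm_num) (by omega)
    refine ⟨{c | ∃ i j : Fin m, (j : ℕ) = i + 1 ∧ c = arrowMark p i j}, ?_, ?_, ?_⟩
    · rintro _ ⟨i, j, -, rfl⟩
      simp only [arrowMark, Finset.sum_sub_distrib, Finset.sum_ite_eq', Finset.mem_univ, if_true]
      norm_num
    · rintro _ ⟨i, j, hij, rfl⟩ k h
      have hne : i ≠ j := fun e => by rw [e] at hij; omega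
      have := congrFun h j
      simp only [arrowMark, if_neg hne.symm, if_true, zero_sub] at this
      by_cases hk : j = k
      · rw [hk, Pi.single_eq_same] at this
        exact h2 (by linear_combination -this)
      · rw [Pi.single_eq_of_ne hk, neg_eq_zero] at this
        exact one_ne_zero this
    · intro σ hσ
      exact rigid_arrows h2 h3 σ fun i j hij => hσ _ ⟨i, j, hij, rfl⟩

open scoped Classical in
/-- Some colouring with three colours is fixed by no nontrivial affine map. -/
theorem exists_frame_colouring {V : Type u} [AddCommGroup V] [Finite V] {p k : ℕ} (hp : p.Prime)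
    (hV : ∀ x : V, p • x = 0) (hn : Nat.card V = p ^ k) (hk : (p = 2 ∧ 5 ≤ k) ∨ 5 ≤ p) :
    ∃ δ : V → ZMod 3, ∀ (a : Aut V) (t : V), (∀ x, δ (t + a • x) = δ x) → t = 0 ∧ a = 1 := by
  haveI := Fact.mk hp
  letI : Module (ZMod p) V := AddCommGroup.zmodModule (n := p) (G := V) hV
  haveI : Module.Finite (ZMod p) V := Module.Finite.of_finite (R := ZMod p) (M := V)
  have hrk : Module.finrank (ZMod p) V = k := by
    have h : Nat.card V = Nat.card (ZMod p) ^ Module.finrank (ZMod p) V := Module.natCard_eq_pow_finrank (K := ZMod p) (V := V)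
    rw [hn, Nat.card_zmod] at h
    exact (Nat.pow_right_injective hp.two_le h).symm
  let b : Module.Basis (Fin k) (ZMod p) V := Module.finBasisOfFinrankEq (ZMod p) V hrk
  let P : Fin (k + 1) → V := Fin.cases 0 ⇑b
  let Φ : (Fin (k + 1) → ZMod p) → V := fun c => ∑ i, c i • P i
  have hΦ : ∀ c d : Fin (k + 1) → ZMod p, ∑ i, c i = 1 → ∑ i, d i = 1 → Φ c = Φ d → c = d := by
    intro c d hc hd h
    simp only [Φ, Fin.sum_univ_succ, P, Fin.cases_zero, Fin.cases_succ, smul_zero, zero_add] at h
    have hs : ∀ j : Fin k, c j.succ = d j.succ := fun j => by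
      have := congrArg (fun v => b.repr v j) h
      simpa [map_sum, Finsupp.finsetSum_apply, Finsupp.single_apply] using this
    have h0 : c 0 = d 0 := by
      rw [Fin.sum_univ_succ] at hc hd
      simp only [hs] at hc
      exact add_right_cancel (hc.trans hd.symm)
    funext i
    exact Fin.cases h0 hs i
  have hsingle : ∀ i, Φ (Pi.single i 1) = P i := fun i => by
    simp only [Φ]
    rw [Finset.sum_eq_single i (fun j _ hj => by rw [Pi.single_eq_of_ne hj, zero_smul])
      (fun h => absurd (Finset.mem_univ i) h), Pi.single_eq_same, one_smul]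
  have hPinj : Function.Injective P := fun i j h => by
    have h' := hΦ (Pi.single i 1) (Pi.single j 1) (by simp) (by simp) (by rw [hsingle, hsingle, h])
    by_contra hne
    have := congrFun h' i
    rw [Pi.single_eq_same, Pi.single_eq_of_ne hne] at this
    exact one_ne_zero this
  obtain ⟨M, hM1, hM2, hM3⟩ := exists_marks (m := k + 1) (p := p)
    (hk.imp (fun h => ⟨h.1, by omega⟩) id)
  refine ⟨fun x => if x ∈ Set.range P then 1 else if x ∈ Φ '' M then 0 else 2, fun a t hat => ?_⟩
  have hfr : ∀ i, ∃ j, t + a • P i = P j := by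
    intro i
    have := hat (P i)
    dsimp only at this
    rw [if_pos (Set.mem_range_self i)] at this
    by_cases h : t + a • P i ∈ Set.range P
    · obtain ⟨j, hj⟩ := h
      exact ⟨j, hj.symm⟩
    · rw [if_neg h] at this
      split at this <;> exact absurd this (by decide)
  choose f hf using hfr
  have finj : Function.Injective f := fun i j h => hPinj (MulAction.injective a
    (add_left_cancel (((hf i).trans (congrArg P h)).trans (hf j).symm)))
  let σ : Equiv.Perm (Fin (k + 1)) := Equiv.ofBijective f (Finite.injective_iff_bijective.mp finj)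
  have hsum : ∀ c : Fin (k + 1) → ZMod p, ∑ i, c (σ.symm i) = ∑ i, c i := fun c => σ.symm.sum_comp c
  have hcomb : ∀ c : Fin (k + 1) → ZMod p, ∑ i, c i = 1 →
      t + a • Φ c = Φ fun l => c (σ.symm l) := by
    intro c hc
    simp only [Φ]
    rw [Finset.smul_sum, ← Equiv.sum_comp σ fun l => c (σ.symm l) • P l]
    have : ∀ i, c (σ.symm (σ i)) • P (σ i) = c i • t + a • (c i • P i) := fun i => by
      rw [σ.symm_apply_apply, show σ i = f i from rfl, ← hf i, smul_add]
      exact congrArg (c i • t + ·) (ZMod.map_smul (DistribMulAction.toAddMonoidEnd _ V a) (c i) (P i)).symm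
    simp only [this, Finset.sum_add_distrib, ← Finset.sum_smul, hc, one_smul]
  have hσ : σ = 1 := hM3 σ fun c hc => by
    have hc1 := hM1 c hc
    have h1 : Φ c ∉ Set.range P := by
      rintro ⟨i, hi⟩
      exact hM2 c hc i (hΦ c _ hc1 (by simp) (by rw [hsingle, hi]))
    have := hat (Φ c)
    dsimp only at this
    rw [if_neg h1, if_pos (Set.mem_image_of_mem Φ hc)] at this
    by_cases h2 : t + a • Φ c ∈ Set.range P
    · rw [if_pos h2] at this; exact absurd this (by decide)
    rw [if_neg h2] at this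
    by_cases h3 : t + a • Φ c ∈ Φ '' M
    · obtain ⟨d, hd, hdc⟩ := h3
      rw [hcomb c hc1] at hdc
      rwa [← hΦ d _ (hM1 d hd) ((hsum c).trans hc1) hdc]
    · rw [if_neg h3] at this; exact absurd this (by decide)
  have hfix : ∀ i, t + a • P i = P i := fun i => by
    rw [hf i, show f i = σ i from rfl, hσ]
    rfl
  have ht : t = 0 := by
    have := hfix 0
    simpa [P] using this
  refine ⟨ht, aut_ext fun x => ?_⟩
  rw [one_smul]
  have hb : ∀ j : Fin k, a • b j = b j := fun j => by
    have := hfix j.succ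
    simpa [P, ht] using this
  rw [← b.sum_repr x, Finset.smul_sum]
  refine Finset.sum_congr rfl fun j _ => ?_
  calc a • (b.repr x j • b j) = b.repr x j • a • b j :=
        ZMod.map_smul (DistribMulAction.toAddMonoidEnd _ V a) (b.repr x j) (b j)
    _ = _ := by rw [hb]

end CfsgLib.ColourThree
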