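import Cfsg.Agent.ColourThree.Basic
import Cfsg.Agent.ColourThree.Affine
import Cfsg.Agent.ColourThree.Frame

/-!
Every soluble permutation group of order prime to three has a colouring with three colours fixed
by the identity only.
-/

set_option autoImplicit false
set_option linter.style.haveILetI false

universe u

namespace CfsgLib.ColourThree

open Equiv CfsgLib.OddBase
open scoped Pointwise

variable {Ω : Type u}

lemma range_three {H K : Type*} [Group H] [Group K] (f : H →* K) (h : ¬ 3 ∣ Nat.card H) :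
    ¬ 3 ∣ Nat.card f.range := fun hd => h (hd.trans (Subgroup.card_range_dvd f))

/-- A primitive soluble group is affine. -/
lemma affine_data [Finite Ω] (S : Subgroup (Perm Ω)) (hsol : Group.IsSolvable S) [Nontrivial S]
    [MulAction.IsPretransitive S Ω]
    (hprim : ∀ B : Set Ω, MulAction.IsBlock S B → B.Subsingleton ∨ B = Set.univ) :
    ∃ (V : Type u) (_ : AddCommGroup V) (_ : Finite V) (A : Subgroup (Aut V)) (e : V ≃ Ω),
      Group.IsSolvable A ∧ Irr A ∧ 1 < Nat.card V ∧ Nat.card S = Nat.card V * Nat.card A ∧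
        ∀ g ∈ S, ∃ a ∈ A, ∃ t : V, ∀ v, g (e v) = e (t + a • v) := by
  obtain ⟨N, hNn, hNb, hNc⟩ := exists_abelian_normal S hsol
  have htrans : ∀ X : Subgroup S, X.Normal → X ≠ ⊥ → ∀ x y : Ω, ∃ a ∈ X, (a : Perm Ω) x = y := by
    intro X hXn hX x y
    rcases hprim _ (MulAction.IsBlock.orbit_of_normal (N := X) x) with hsub | huniv
    · exfalso
      refine hX (Subgroup.eq_bot_iff_forall _ |>.mpr fun a ha => Subtype.ext (Perm.ext fun z => ?_))
      obtain ⟨g, rfl⟩ := MulAction.exists_smul_eq S x z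
      have h1 := hsub (show ((⟨g⁻¹ * a * g, by simpa using hXn.conj_mem a ha g⁻¹⟩ : X) • x) ∈
        MulAction.orbit X x from ⟨_, rfl⟩) (MulAction.mem_orbit_self x)
      change (g⁻¹ * a * g) • x = x at h1
      show a • g • x = g • x
      rw [mul_smul, mul_smul, inv_smul_eq_iff] at h1
      exact h1
    · obtain ⟨⟨a, ha⟩, hay⟩ : y ∈ MulAction.orbit X x := by rw [huniv]; trivial
      exact ⟨a, ha, hay⟩
  obtain ⟨x0⟩ : Nonempty Ω := by
    obtain ⟨g, hg⟩ := exists_ne (1 : S)
    by_contra h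
    exact hg (Subtype.ext (Perm.ext fun x => (h ⟨x⟩).elim))
  have hinj : Function.Injective fun a : N => ((a : S) : Perm Ω) x0 := by
    intro a b hab
    have hab' : ((a : S) : Perm Ω) x0 = ((b : S) : Perm Ω) x0 := hab
    have hmem : (b : S)⁻¹ * a ∈ N := N.mul_mem (N.inv_mem b.2) a.2
    refine Subtype.ext (inv_mul_eq_one.mp (Subtype.ext (Perm.ext fun z => ?_) : (b : S)⁻¹ * a = 1)).symm
    obtain ⟨c, hc, rfl⟩ := htrans N hNn hNb x0 z
    show (((b : S)⁻¹ * a : S) : Perm Ω) ((c : Perm Ω) x0) = (c : Perm Ω) x0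
    rw [← Perm.mul_apply, ← Subgroup.coe_mul, hNc _ hmem c hc, Subgroup.coe_mul, Perm.mul_apply,
      Subgroup.coe_mul, Perm.mul_apply, hab', Subgroup.coe_inv, Perm.inv_def, Equiv.symm_apply_apply]
  have hbij : Function.Bijective fun a : N => ((a : S) : Perm Ω) x0 :=
    ⟨hinj, fun y => by obtain ⟨a, ha, h⟩ := htrans N hNn hNb x0 y; exact ⟨⟨a, ha⟩, h⟩⟩
  letI instC : CommGroup N := { (inferInstance : Group N) with
    mul_comm := fun a b => Subtype.ext (hNc a a.2 b b.2) }
  set H := MulAction.stabilizer S x0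
  let ρ0 : H →* AddMonoid.End (Additive N) :=
    { toFun := fun h =>
        { toFun := fun a => Additive.ofMul (⟨(h : S) * (Additive.toMul a : N) * (h : S)⁻¹,
            hNn.conj_mem _ (Additive.toMul a).2 _⟩ : N)
          map_zero' := by apply Additive.toMul.injective; ext1; simp
          map_add' := fun a b => by
            apply Additive.toMul.injective; ext1; simp [mul_assoc] }
      map_one' := by
        refine AddMonoidHom.ext fun a => Additive.toMul.injective (Subtype.ext ?_)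
        show ((1 : H) : S) * (Additive.toMul a : N) * ((1 : H) : S)⁻¹ = _
        rw [OneMemClass.coe_one, inv_one, mul_one, one_mul]; rfl
      map_mul' := fun g h => by
        refine AddMonoidHom.ext fun a => Additive.toMul.injective (Subtype.ext ?_)
        show ((g * h : H) : S) * (Additive.toMul a : N) * ((g * h : H) : S)⁻¹ =
          (g : S) * ((h : S) * (Additive.toMul a : N) * (h : S)⁻¹) * (g : S)⁻¹
        rw [Subgroup.coe_mul]; group }
  let ρ := ρ0.toHomUnits
  let e : Additive N ≃ Ω := Additive.toMul.trans (Equiv.ofBijective _ hbij)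
  have he : ∀ v, e v = ((Additive.toMul v : N) : S).1 x0 := fun v => rfl
  have hconj : ∀ (h : H) (v : Additive N), ((h : S) : Perm Ω) (e v) = e (ρ h • v) := by
    intro h v
    have hval : ((Additive.toMul (ρ h • v) : N) : S) = (h : S) * (Additive.toMul v : N) * (h : S)⁻¹ := rfl
    rw [he, he, hval]
    simp only [Subgroup.coe_mul, Subgroup.coe_inv, Perm.mul_apply]
    rw [Perm.inv_eq_iff_eq.mpr (show x0 = ((h : S) : Perm Ω) x0 from h.2.symm)]
  have hρinj : Function.Injective ρ := by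
    rw [injective_iff_map_eq_one]
    intro h hh
    refine Subtype.ext (Subtype.ext (Perm.ext fun z => ?_))
    obtain ⟨v, rfl⟩ := e.surjective z
    rw [hconj, hh, one_smul]
    rfl
  have hirr : Irr ρ.range := by
    intro U hU
    let X : Subgroup S :=
      { carrier := {a | ∃ ha : a ∈ N, Additive.ofMul (⟨a, ha⟩ : N) ∈ U}
        one_mem' := ⟨N.one_mem, U.zero_mem⟩
        mul_mem' := fun ⟨ha, h1⟩ ⟨hb, h2⟩ => ⟨N.mul_mem ha hb, U.add_mem h1 h2⟩
        inv_mem' := fun ⟨ha, h1⟩ => ⟨N.inv_mem ha, U.neg_mem h1⟩ }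
    have hXn : X.Normal := by
      refine ⟨fun a ⟨ha, haU⟩ g => ?_⟩
      obtain ⟨b, hb, hbx⟩ := htrans N hNn hNb x0 ((g : Perm Ω) x0)
      have hh : b⁻¹ * g ∈ H := by
        show ((b⁻¹ * g : S) : Perm Ω) x0 = x0
        rw [Subgroup.coe_mul, Perm.mul_apply, Subgroup.coe_inv, Perm.inv_eq_iff_eq]
        exact hbx.symm
      have h2 : Additive.ofMul (⟨(b⁻¹ * g) * a * (b⁻¹ * g)⁻¹, hNn.conj_mem _ ha _⟩ : N) ∈ U :=
        hU _ ⟨⟨_, hh⟩, rfl⟩ _ haU
      have h3 : g * a * g⁻¹ = (b⁻¹ * g) * a * (b⁻¹ * g)⁻¹ := by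
        have h4 : g * a * g⁻¹ = b * ((b⁻¹ * g) * a * (b⁻¹ * g)⁻¹) * b⁻¹ := by group
        rw [h4, hNc b hb _ (hNn.conj_mem _ ha _), mul_inv_cancel_right]
      rw [h3]
      exact ⟨_, h2⟩
    by_cases hXb : X = ⊥
    · left
      rw [eq_bot_iff]
      intro v hv
      have : ((Additive.toMul v : N) : S) ∈ X := ⟨(Additive.toMul v).2, hv⟩
      rw [hXb, Subgroup.mem_bot] at this
      rw [AddSubgroup.mem_bot]
      exact Additive.toMul.injective (Subtype.ext this)
    · right
      rw [eq_top_iff]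
      intro v _
      obtain ⟨b, ⟨hb, hbU⟩, hbx⟩ := htrans X hXn hXb x0 (e v)
      have : (⟨b, hb⟩ : N) = Additive.toMul v := hinj hbx
      rw [this] at hbU
      exact hbU
  have hHsol : Group.IsSolvable H := by
    haveI := hsol
    exact Group.isSolvable_of_isSolvable_injective H.subtype_injective
  have hcN : Nat.card N = Nat.card Ω := Nat.card_congr (Equiv.ofBijective _ hbij)
  refine ⟨Additive N, inferInstance, inferInstanceAs (Finite N), ρ.range, e, solvable_range _ hHsol,
    hirr, ?_, ?_, fun g hg => ?_⟩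
  · show 1 < Nat.card N
    exact (Subgroup.one_lt_card_iff_ne_bot N).mpr hNb
  · show Nat.card S = Nat.card N * _
    rw [← Nat.card_congr (MonoidHom.ofInjective hρinj).toEquiv, hcN,
      ← MulAction.index_stabilizer_of_transitive S x0, mul_comm]
    exact (Subgroup.card_mul_index H).symm
  · obtain ⟨b, hb, hbx⟩ := htrans N hNn hNb x0 (g x0)
    have hh : b⁻¹ * ⟨g, hg⟩ ∈ H := by
      show ((b⁻¹ * ⟨g, hg⟩ : S) : Perm Ω) x0 = x0
      rw [Subgroup.coe_mul, Perm.mul_apply, Subgroup.coe_inv, Perm.inv_eq_iff_eq]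
      exact hbx.symm
    refine ⟨_, ⟨⟨_, hh⟩, rfl⟩, Additive.ofMul ⟨b, hb⟩, fun v => ?_⟩
    calc g (e v) = (b : Perm Ω) ((((b⁻¹ * ⟨g, hg⟩ : S)) : Perm Ω) (e v)) := by
          rw [← Perm.mul_apply, ← Subgroup.coe_mul, mul_inv_cancel_left]
      _ = (b : Perm Ω) (e (ρ ⟨_, hh⟩ • v)) := by rw [← hconj]
      _ = _ := by rw [he, he]; rfl

/-- Fixed points of an affine map. -/
lemma card_fixed_affine {V : Type u} [AddCommGroup V] [Finite V] {A : Subgroup (Aut V)} {f : ℕ}
    (hA : ∀ a ∈ A, a ≠ 1 → Nat.card (fixS a) ≤ f) {e : V ≃ Ω} {g : Perm Ω} (hg1 : g ≠ 1) {a : Aut V}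
    (ha : a ∈ A) {t : V} (hga : ∀ v, g (e v) = e (t + a • v)) :
    Nat.card {x : Ω // g x = x} ≤ f := by
  rcases isEmpty_or_nonempty {x : Ω // g x = x} with hem | ⟨⟨x, hx⟩⟩
  · simp [Nat.card_eq_zero.mpr (Or.inl hem)]
  obtain ⟨v0, rfl⟩ := e.surjective x
  rw [hga, e.apply_eq_iff_eq] at hx
  have ha1 : a ≠ 1 := by
    rintro rfl
    rw [one_smul, add_eq_right] at hx
    refine hg1 (Equiv.ext fun z => ?_)
    obtain ⟨v, rfl⟩ := e.surjective z
    rw [hga, one_smul, hx, zero_add]
    rfl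
  refine le_trans ?_ (hA a ha ha1)
  have hd : ∀ y : {x : Ω // g x = x}, e.symm y.1 - v0 ∈ fixS a := by
    intro y
    have h := y.2
    obtain ⟨v, hv⟩ := e.surjective y.1
    rw [← hv, hga, e.apply_eq_iff_eq] at h
    show a • (e.symm y.1 - v0) = e.symm y.1 - v0
    rw [← hv, e.symm_apply_apply, smul_sub, eq_sub_iff_add_eq.mpr ((add_comm _ _).trans h),
      eq_sub_iff_add_eq.mpr ((add_comm _ _).trans hx)]
    abel
  exact Nat.card_le_card_of_injective (fun y => (⟨_, hd y⟩ : fixS a))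
    fun y z h => Subtype.ext (e.symm.injective (sub_left_injective (congrArg Subtype.val h)))

/-- The colouring of a primitive group. -/
lemma col3_primitive [Finite Ω] (S : Subgroup (Perm Ω)) (hsol : Group.IsSolvable S)
    (h3 : ¬ 3 ∣ Nat.card S) [Nontrivial S] [MulAction.IsPretransitive S Ω]
    (hprim : ∀ B : Set Ω, MulAction.IsBlock S B → B.Subsingleton ∨ B = Set.univ) : Col3 S := by
  classical
  obtain ⟨V, iV, fV, A, e, hAsol, hirr, h1V, hcS, hg⟩ := affine_data S hsol hprim
  letI := iV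
  haveI := fV
  have hA3 : ¬ 3 ∣ Nat.card A := fun h => h3 (hcS ▸ h.mul_left _)
  have hn3 : ¬ 3 ∣ Nat.card V := fun h => h3 (hcS ▸ h.mul_right _)
  obtain ⟨p, hp, hpd⟩ := Nat.exists_prime_and_dvd (show Nat.card V ≠ 1 by omega)
  haveI := Fact.mk hp
  have hV : ∀ x : V, p • x = 0 := by
    let U : AddSubgroup V :=
      { carrier := {v | p • v = 0}
        zero_mem' := smul_zero p
        add_mem' := fun {a b} (ha : p • a = 0) (hb : p • b = 0) => show p • (a + b) = 0 by
          rw [smul_add, ha, hb, add_zero]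
        neg_mem' := fun {a} (ha : p • a = 0) => show p • (-a) = 0 by rw [smul_neg, ha, neg_zero] }
    have hU : Inv A U := fun a _ v (hv : p • v = 0) => show p • (a • v) = 0 by
      rw [smul_comm, hv, smul_zero]
    rcases hirr U hU with hb | ht
    · obtain ⟨v, hv⟩ := exists_prime_addOrderOf_dvd_card' p hpd
      have : v ∈ U := show p • v = 0 by rw [← hv]; exact addOrderOf_nsmul_eq_zero v
      rw [hb, AddSubgroup.mem_bot] at this
      rw [this, addOrderOf_zero] at hv
      exact absurd hv.symm hp.ne_one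
    · exact fun x => show x ∈ U by rw [ht]; trivial
  obtain ⟨k, hk⟩ : ∃ k, Nat.card V = p ^ k := by
    have hpg : IsPGroup p (Multiplicative V) := fun x => ⟨1, by
      rw [pow_one]
      exact congrArg Multiplicative.ofAdd (hV x.toAdd)⟩
    obtain ⟨k, hk⟩ := IsPGroup.iff_card.mp hpg
    exact ⟨k, hk⟩
  have hp3 : p ≠ 3 := fun h => hn3 (h ▸ hpd)
  have hcΩ : Nat.card Ω = Nat.card V := (Nat.card_congr e).symm
  -- few group elements in small dimension
  have count : ∀ f : ℕ, (∀ a ∈ A, a ≠ 1 → Nat.card (fixS a) ≤ f) →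
      Nat.card V * Nat.card A * 3 ^ ((Nat.card V + f) / 2) ≤ 3 ^ Nat.card V → Col3 S := by
    intro f hf hle
    refine col3_of_count S (f := f) (fun g hgS hg1 => ?_) (by rw [hcS, hcΩ]; exact hle)
    obtain ⟨a, ha, t, hga⟩ := hg g hgS
    exact card_fixed_affine hf hg1 ha hga
  by_cases hbig : (p = 2 ∧ 5 ≤ k) ∨ 5 ≤ p
  · obtain ⟨δ, hδ⟩ := exists_frame_colouring hp hV hk hbig
    refine ⟨fun x => δ (e.symm x), fun g hgS hfix => Equiv.ext fun x => ?_⟩
    obtain ⟨a, -, t, hga⟩ := hg g hgS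
    obtain ⟨rfl, rfl⟩ := hδ a t fun v => by
      have := hfix (e v)
      simpa [hga] using this
    obtain ⟨v, rfl⟩ := e.surjective x
    rw [hga, one_smul, zero_add]
    rfl
  have hp2 : p = 2 := by
    by_contra h
    have h2 := hp.two_le
    have h5 : p ≠ 4 := fun e => absurd (e ▸ hp) (by norm_num)
    exact hbig (Or.inr (by omega))
  subst hp2
  have hk4 : k ≤ 4 := by
    by_contra h
    exact hbig (Or.inl ⟨rfl, by omega⟩)
  have hnone : A = ⊥ → Col3 S := fun hA => count 0
    (fun a ha ha1 => absurd (by rw [hA, Subgroup.mem_bot] at ha; exact ha) ha1) (by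
      rw [hA, Subgroup.card_bot, hk]
      interval_cases k <;> norm_num)
  interval_cases k
  · rw [hk] at h1V; norm_num at h1V
  · rcases trivial_or_normal hAsol hirr with h | ⟨q, B, hq, -, -, -, -, -, hqd⟩
    · exact hnone h
    · rw [hk] at hqd
      norm_num at hqd
      exact absurd hqd hq.ne_one
  · rcases trivial_or_normal hAsol hirr with h | ⟨q, B, hq, -, -, -, -, hqA, hqd⟩
    · exact hnone h
    · rw [hk] at hqd
      norm_num at hqd
      exact absurd (((Nat.prime_dvd_prime_iff_eq hq Nat.prime_three).mp hqd) ▸ hqA) hA3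
  · rcases small_transitive hAsol hirr hV (n := 8) (q := 7) (by rw [hk]; norm_num) (by norm_num)
      (by norm_num) (le_refl _) hA3 with h | ⟨s, hs, hsd, hs2, hs3, hfix⟩
    · exact hnone h
    · have hs1 : s = 1 := by
        have := Nat.le_of_dvd (by norm_num) hsd
        interval_cases s <;> norm_num at *
      exact count 1 (hfix hs1) (by rw [hs, hs1, hk]; norm_num)
  · rcases sixteen hAsol hirr hV (by rw [hk]; norm_num) hA3 with h | ⟨hA20, hfix⟩
    · exact hnone h
    · refine count 4 hfix ?_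
      rw [hk]
      calc 2 ^ 4 * Nat.card A * 3 ^ ((2 ^ 4 + 4) / 2) ≤ 2 ^ 4 * 20 * 3 ^ ((2 ^ 4 + 4) / 2) := by gcongr
        _ ≤ _ := by norm_num

lemma col3_imprimitive [Finite Ω] (S : Subgroup (Perm Ω)) (hsol : Group.IsSolvable S)
    (h3 : ¬ 3 ∣ Nat.card S) [MulAction.IsPretransitive S Ω] {B : Set Ω}
    (hB : MulAction.IsBlock S B) (hns : ¬ B.Subsingleton) (huniv : B ≠ Set.univ)
    (ih : ∀ (Ω' : Type u) [Finite Ω'], Nat.card Ω' < Nat.card Ω → ∀ S' : Subgroup (Perm Ω'),
      Group.IsSolvable S' → ¬ 3 ∣ Nat.card S' → Col3 S') : Col3 S := by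
  classical
  obtain ⟨b0, hb0, b1, hb1, hb01⟩ := Set.not_subsingleton_iff.mp hns
  let Q : Type u := MulAction.orbit S B
  have hex : ∀ x : Ω, ∃ j : Q, x ∈ (j : Set Ω) := by
    intro x
    obtain ⟨g, hg⟩ := MulAction.exists_smul_eq S b0 x
    exact ⟨⟨g • B, g, rfl⟩, Set.mem_smul_set.mpr ⟨b0, hb0, hg⟩⟩
  have huniq : ∀ (x : Ω) (j k : Q), x ∈ (j : Set Ω) → x ∈ (k : Set Ω) → j = k := by
    rintro x ⟨_, g, rfl⟩ ⟨_, g', rfl⟩ hj hk
    by_contra hne
    exact Set.disjoint_left.mp (hB fun e => hne (Subtype.ext e)) hj hk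
  choose π hπmem using hex
  let φ : S →* Perm Q := MulAction.toPermHom S Q
  have hπ : ∀ (g : S) x, π ((g : Perm Ω) x) = φ g (π x) := fun g x =>
    huniq _ _ _ (hπmem _) (Set.mem_smul_set.mpr ⟨x, hπmem x, rfl⟩)
  let j0 : Q := ⟨B, MulAction.mem_orbit_self B⟩
  have hsec' : ∀ j : Q, ∃ g : S, φ g j0 = j := fun j => by
    obtain ⟨g, hg⟩ := j.2
    exact ⟨g, Subtype.ext hg⟩
  choose sec hsec using hsec'
  have hfib : ∀ x, π x = j0 ↔ x ∈ B := fun x =>
    ⟨fun h => by have := hπmem x; rw [h] at this; exact this, fun h => huniq x _ j0 (hπmem x) h⟩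
  have hQlt : Nat.card Q < Nat.card Ω := by
    have : Fintype Ω := Fintype.ofFinite Ω
    have : Fintype Q := Fintype.ofFinite Q
    rw [Nat.card_eq_fintype_card, Nat.card_eq_fintype_card]
    refine Fintype.card_lt_of_surjective_not_injective π (fun j => ⟨(sec j : Perm Ω) b0, ?_⟩) fun h => ?_
    · rw [hπ, (hfib b0).mpr hb0, hsec]
    · exact hb01 (h (((hfib b0).mpr hb0).trans ((hfib b1).mpr hb1).symm))
  let T : Subgroup (Perm Ω) := (MulAction.stabilizer S j0).map S.subtype
  have hT : ∀ t ∈ T, ∀ x, (π (t x) = j0) ↔ π x = j0 := by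
    rintro _ ⟨t, ht, rfl⟩ x
    rw [Subgroup.coe_subtype, hπ]
    have h0 : φ t j0 = j0 := ht
    exact ⟨fun h => (φ t).injective (h.trans h0.symm), fun h => by rw [h, h0]⟩
  have hBlt : Nat.card {x // π x = j0} < Nat.card Ω := by
    have : Fintype Ω := Fintype.ofFinite Ω
    rw [Nat.card_eq_fintype_card, Nat.card_eq_fintype_card]
    obtain ⟨z, hz⟩ := (Set.ne_univ_iff_exists_notMem B).mp huniv
    exact Fintype.card_subtype_lt (x := z) (fun h => hz ((hfib z).mp h))
  have hTsol : Group.IsSolvable T := subgroup_solvable_map _ _ (by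
    haveI := hsol
    exact Group.isSolvable_of_isSolvable_injective (MulAction.stabilizer S j0).subtype_injective)
  have hT3 : ¬ 3 ∣ Nat.card T :=
    fun h => h3 (h.trans (Subgroup.card_dvd_of_le (Subgroup.map_subtype_le _)))
  obtain ⟨η, hη⟩ := ih _ hBlt (resPerm T (fun x => π x = j0) hT).range
    (solvable_range _ hTsol) (range_three _ hT3)
  refine col3_blocks S h3 φ π hπ j0 sec hsec ⟨b0, (hfib b0).mpr hb0⟩
    (fun x => if hx : π x = j0 then η ⟨x, hx⟩ else 0) (fun t ht hfix x hx => ?_)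
    (ih _ hQlt φ.range (solvable_range _ hsol) (range_three _ h3))
  have hmem : (t : Perm Ω) ∈ T := ⟨t, ht, rfl⟩
  have := hη _ ⟨⟨(t : Perm Ω), hmem⟩, rfl⟩ fun y => by
    have h1 := hfix y y.2
    simp only [y.2, (hT _ hmem y).mpr y.2, dif_pos] at h1
    exact h1
  exact congrArg Subtype.val (Perm.ext_iff.mp this ⟨x, hx⟩)

/-- A soluble permutation group of order prime to three has a colouring with three colours fixed by
the identity only. -/
theorem col3_of_solvable : ∀ (n : ℕ) (Ω : Type u) [Finite Ω], Nat.card Ω = n →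
    ∀ S : Subgroup (Perm Ω), Group.IsSolvable S → ¬ 3 ∣ Nat.card S → Col3 S := by
  intro n
  induction n using Nat.strong_induction_on with
  | _ n ih =>
    intro Ω _ hn S hsol h3
    have ih' : ∀ (Ω' : Type u) [Finite Ω'], Nat.card Ω' < Nat.card Ω → ∀ S' : Subgroup (Perm Ω'),
        Group.IsSolvable S' → ¬ 3 ∣ Nat.card S' → Col3 S' := fun Ω' _ h S' hs' ho' =>
      ih _ (hn ▸ h) Ω' rfl S' hs' ho'
    rcases subsingleton_or_nontrivial S with hS | hS
    · exact ⟨fun _ => 0, fun g hg _ => congrArg Subtype.val (Subsingleton.elim (⟨g, hg⟩ : S) 1)⟩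
    by_cases htr : MulAction.IsPretransitive S Ω
    · by_cases hprim : ∀ B : Set Ω, MulAction.IsBlock S B → B.Subsingleton ∨ B = Set.univ
      · exact col3_primitive S hsol h3 hprim
      · push Not at hprim
        obtain ⟨B, hB, hns, huniv⟩ := hprim
        exact col3_imprimitive S hsol h3 hB (Set.not_subsingleton_iff.mpr hns) huniv ih'
    · obtain ⟨x, y, hxy⟩ : ∃ x y : Ω, ∀ g : S, g • x ≠ y := by
        by_contra hcon
        push Not at hcon
        exact htr ⟨hcon⟩
      let P : Ω → Prop := fun z => z ∈ MulAction.orbit S x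
      have hP : ∀ g ∈ S, ∀ z, P (g z) ↔ P z := fun g hg z => by
        constructor <;> rintro ⟨a, ha⟩
        · exact ⟨(⟨g, hg⟩ : S)⁻¹ * a, show ((⟨g, hg⟩ : S)⁻¹ * a) • x = z by
            rw [mul_smul, show a • x = (⟨g, hg⟩ : S) • z from ha, inv_smul_smul]⟩
        · exact ⟨(⟨g, hg⟩ : S) * a, show ((⟨g, hg⟩ : S) * a) • x = g z by
            rw [mul_smul, show a • x = z from ha]; rfl⟩
      have hy : ¬ P y := fun ⟨g, hg⟩ => hxy g hg
      have : Fintype Ω := Fintype.ofFinite Ω
      classical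
      refine col3_union S P hP
        (ih' _ ?_ _ (solvable_range _ hsol) (range_three _ h3))
        (ih' _ ?_ _ (solvable_range _ hsol) (range_three _ h3))
      · simp only [Nat.card_eq_fintype_card]
        exact Fintype.card_subtype_lt (x := y) hy
      · simp only [Nat.card_eq_fintype_card]
        exact Fintype.card_subtype_lt (x := x) (not_not.mpr (MulAction.mem_orbit_self x))

end CfsgLib.ColourThree
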